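import Cfsg.Agent.Omega.TwoF.MathieuRK
import Cfsg.Agent.Mrg.Omega.TwoF.Bridge
import Cfsg.Agent.Omega.KFacts
import Cfsg.Agent.Omega.TwoF.RowTool
import Cfsg.Agent.KFacts.MM.OutAut
import Cfsg.Agent.KFacts.MM.Cent
import Cfsg.Agent.KFacts.M23.OutOne

section


/-!
# TABLE 2F: the row M11
-/

set_option autoImplicit false

namespace Cfsg.Agent.Omega.TwoF.RowM11

open Subgroup Cfsg

universe u

theorem facts {K : Type u} [Group K] (h : Spor.IsoM11 K) :
    Finite K ∧ IsSimpleGroup K ∧ center K = ⊥ ∧ Nontrivial K := by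
  obtain ⟨e⟩ := h
  have hs0 : IsSimpleGroup Spor.M11 := isM11.1
  have hs : IsSimpleGroup K := e.isSimpleGroup
  have hc : Nat.card K = 7920 := (Nat.card_congr e.toEquiv).trans isM11.2
  have hfin : Finite K := Nat.finite_of_card_ne_zero (by rw [hc]; norm_num)
  exact ⟨hfin, hs, Cfsg.Agent.OddHalf.Table.OutBasic.center_eq_bot (by rw [hc]; norm_num), inferInstance⟩

theorem dead {K : Type u} [Group K] (h : Spor.IsoM11 K) : Dead2.{u} K := by
  obtain ⟨hfin, -, hc, -⟩ := facts h
  exact Dead2.of_rk ((RK.of_rk hc (rk_M11 h)).mono (by norm_num))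

/-- **The row `M11`.** -/
theorem row : KFacts.KillRow.{u} @Spor.IsoM11 := by
  intro K _ h
  obtain ⟨-, -, hc, hn⟩ := facts h
  exact (dead h).kill hc hn

end Cfsg.Agent.Omega.TwoF.RowM11

end

section


/-!
# TABLE 2F: the rows M22 and M23

`m_2(Aut M22) ≤ 5`, `m_2(Aut M23) ≤ 4`: the Sylow 2-subgroup (order 128) has rank 4, `|Out M22| ≤ 2`, `Out M23 = 1`.
-/

set_option autoImplicit false

namespace Cfsg.Agent.Omega.TwoF.RowM23

open Subgroup Cfsg Cfsg.Agent.KFacts.MM.Sub Cfsg.Agent.KFacts.MM.Int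

universe u

/-- the elementary abelian subgroups of the Sylow 2-subgroup `S` have order at most 16 -/
theorem card_le (E : Subgroup (Equiv.Perm GolayPt)) (hES : E ≤ S) (hE : ∀ a ∈ E, a * a = 1) :
    Nat.card E ≤ 2 ^ 4 := by
  by_contra hcon
  push Not at hcon
  rcases Cfsg.Agent.KFacts.MM.El16.el16 E hES hE (by omega) with h | h
  · rw [h, cardV] at hcon
    omega
  · rw [h, cardW] at hcon
    omega

theorem card_subgroupOf {G : Type*} [Group G] {H K : Subgroup G} (h : H ≤ K) :
    Nat.card (H.subgroupOf K) = Nat.card H :=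
  Nat.card_congr (subgroupOfEquivOfLe h).toEquiv

theorem centerless {K : Type*} [Group K] [IsSimpleGroup K] (h : ∃ a b : K, a * b ≠ b * a) : center K = ⊥ := by
  rcases (inferInstance : (center K).Normal).eq_bot_or_eq_top with h1 | h1
  · exact h1
  · obtain ⟨a, b, hab⟩ := h
    exact absurd (mem_center_iff.1 (h1 ▸ mem_top a) b).symm hab

/-- `RK` for a subgroup of the permutations containing `S` as a Sylow 2-subgroup. -/
theorem rk_of {K : Subgroup (Equiv.Perm GolayPt)} (hS : S ≤ K) (hc : center K = ⊥) [Finite (MulAut K)] {e a : ℕ}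
    (he : (Nat.card (MulAut K)).factorization 2 ≤ e) (ha : e + 4 ≤ a + 7) : RK K a := by
  apply RowTool.toRK hc
  obtain ⟨n, hn⟩ := (IsPGroup.iff_card (p := 2) (G := S)).1 Cfsg.Agent.KFacts.MM.El16.isPGroup
  have h7 : 7 ≤ n := by
    have h1 := card_S_ge
    rw [hn] at h1
    by_contra hcon
    have h2 : 2 ^ n ≤ 2 ^ 6 := Nat.pow_le_pow_right (by norm_num) (by omega)
    omega
  refine Rk.rk_of_subgroup (e := e) (t := n) (m := 4) he (S.subgroupOf K) ?_ ?_ (by omega)
  · rw [card_subgroupOf hS, hn]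
  · intro B hB hBe
    have h1 : Nat.card B = Nat.card (B.map K.subtype) :=
      Nat.card_congr (B.equivMapOfInjective K.subtype K.subtype_injective).toEquiv
    rw [h1]
    apply card_le
    · rintro _ ⟨b, hb, rfl⟩
      exact mem_subgroupOf.1 (hB hb)
    · rintro _ ⟨b, hb, rfl⟩
      rw [← map_mul, hBe b hb, map_one]

theorem exists_ncomm {K : Subgroup (Equiv.Perm GolayPt)} (hS : S ≤ K) : ∃ a b : K, a * b ≠ b * a := by
  by_contra hcon
  push Not at hcon
  have h1 : (S : Set (Equiv.Perm GolayPt)) ⊆ {1, z} := by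
    intro s hs
    rcases cen s hs fun t ht => congrArg Subtype.val (hcon ⟨t, hS ht⟩ ⟨s, hS hs⟩) with h | h
    · exact Or.inl h
    · exact Or.inr h
  have h2 := Set.ncard_le_ncard h1 (Set.toFinite _)
  have h3 : (S : Set (Equiv.Perm GolayPt)).ncard = Nat.card S := rfl
  have h4 := card_S_ge
  have h5 := Set.ncard_insert_le (1 : Equiv.Perm GolayPt) {z}
  rw [Set.ncard_singleton] at h5
  omega

theorem mulAut_finite (K : Type*) [Group K] [Finite K] : Finite (MulAut K) :=
  Finite.of_injective (fun φ => (φ : K → K)) DFunLike.coe_injective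

/-! ### M22 -/

instance : Finite Spor.M22 :=
  Nat.finite_of_card_ne_zero (by rw [SporadicA.MathieuRecog.card_M22]; norm_num)

theorem center22 : center Spor.M22 = ⊥ := by
  have := SporadicA.MathieuRecog.simple_M22
  exact centerless (exists_ncomm Cfsg.Agent.KFacts.MM.Cent.S_le22)

theorem card_mulAut22 : Nat.card (MulAut Spor.M22) = 887040 := by
  rw [Nat.card_congr (MonoidHom.ofInjective Cfsg.Agent.KFacts.MM.OutAut.emb_inj).toEquiv,
    Cfsg.Agent.KFacts.MM.OutAut.emb_range]
  exact Cfsg.Agent.J4Type.Aut22.card_D22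

/-- **RK**: `m_2(Aut M22) ≤ 5`. -/
theorem rk22 : RK Spor.M22 5 := by
  have := mulAut_finite Spor.M22
  refine rk_of (e := 8) Cfsg.Agent.KFacts.MM.Cent.S_le22 center22 ?_ (by norm_num)
  rw [card_mulAut22]
  by_contra hcon
  have h1 : 2 ^ 9 ∣ 887040 := (Nat.prime_two.pow_dvd_iff_le_factorization (by norm_num)).2 (by omega)
  norm_num at h1

/-- the row `M22` -/
theorem row22 (K : Type u) [Group K] (h : Spor.IsoM22 K) : KFacts.Tight.{u} K 12 5 := by
  obtain ⟨e⟩ := h
  exact ⟨Or.inl rfl, rk22.equiv e, rfl⟩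

/-! ### M23 -/

instance : Finite Spor.M23 :=
  Nat.finite_of_card_ne_zero (by rw [SporadicA.MathieuRecog.card_M23]; norm_num)

theorem center23 : center Spor.M23 = ⊥ := by
  rw [eq_bot_iff]
  intro m hm
  rw [mem_bot]
  apply Subtype.ext
  apply Equiv.ext
  intro x
  show (m : Equiv.Perm GolayPt) x = x
  by_cases hx : x = none
  · rw [hx]
    exact Cfsg.Agent.Schreier.MTwentyThree.apply_none m
  · apply Cfsg.Agent.Schreier.MTwentyThree.eq_of_fixed hx (Cfsg.Agent.Schreier.MTwentyThree.apply_ne m hx)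
    intro k hk
    have h1 := congrArg (fun g : Spor.M23 => (g : Equiv.Perm GolayPt) x) (mem_center_iff.1 hm k)
    have h2 : (k : Equiv.Perm GolayPt) x = x := Cfsg.Agent.Schreier.MTwentyThree.mem_St.1 hk
    change (k : Equiv.Perm GolayPt) ((m : Equiv.Perm GolayPt) x) =
      (m : Equiv.Perm GolayPt) ((k : Equiv.Perm GolayPt) x) at h1
    rw [h1, h2]

theorem card_mulAut23 (hc : center Spor.M23 = ⊥) : Nat.card (MulAut Spor.M23) = 10200960 := by
  rw [Rk.card_mulAut hc (n := 1), one_mul, SporadicA.MathieuRecog.card_M23]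
  rw [index_eq_one, eq_top_iff]
  intro φ _
  obtain ⟨m, rfl⟩ := Cfsg.Agent.KFacts.M23.OutOne.exists_conj φ
  exact ⟨m, rfl⟩

/-- **RK**: `m_2(Aut M23) ≤ 4`. -/
theorem rk23 : RK Spor.M23 4 := by
  have := mulAut_finite Spor.M23
  refine rk_of (e := 7) (Cfsg.Agent.KFacts.MM.Cent.S_le22.trans SporadicA.MathieuRecog.M22_le) center23 ?_ (by norm_num)
  rw [card_mulAut23 center23]
  by_contra hcon
  have h1 : 2 ^ 8 ∣ 10200960 := (Nat.prime_two.pow_dvd_iff_le_factorization (by norm_num)).2 (by omega)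
  norm_num at h1

theorem dead23 {K : Type u} [Group K] (h : Spor.IsoM23 K) : Dead2.{u} K := by
  obtain ⟨e⟩ := h
  exact Dead2.of_rk (rk23.equiv e)

/-- the row `M23` -/
theorem row23 : KFacts.KillRow.{u} @Spor.IsoM23 := by
  intro K _ h
  have hd := dead23 h
  obtain ⟨e⟩ := h
  refine hd.kill ?_ ?_
  · rw [eq_bot_iff]
    intro x hx
    rw [mem_bot]
    have h1 : e x ∈ center _ := by
      rw [mem_center_iff] at hx ⊢
      intro g
      obtain ⟨g, rfl⟩ := e.surjective g
      rw [← map_mul, ← map_mul, hx g]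
    rw [center23, mem_bot] at h1
    exact e.injective (h1.trans (map_one _).symm)
  · have h1 : Nat.card K = 10200960 := (Nat.card_congr e.toEquiv).trans SporadicA.MathieuRecog.card_M23
    have : Finite K := Nat.finite_of_card_ne_zero (by rw [h1]; norm_num)
    exact Finite.one_lt_card_iff_nontrivial.1 (by rw [h1]; norm_num)

end Cfsg.Agent.Omega.TwoF.RowM23

end
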