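import Cfsg.Agent.Schreier.ChevSch
import Cfsg.Agent.Mrg.Omega.TwoF.RowM
import Cfsg.Agent.Mrg.Omega.Lie.HeisF
import Cfsg.Agent.Mrg.Omega.TwoF.Bridge
import Cfsg.Agent.ClassificationK.GTwoSylow
import Cfsg.Agent.S1055
import Cfsg.Agent.S1059

-- merged: Cfsg.Agent.Schreier.ChevNode
section

/-!
# The node data of the tabulated Chevalley groups
-/

set_option autoImplicit false

namespace Cfsg.Agent.Schreier.ChevNode

open Cfsg Cfsg.Lie Cfsg.Agent.ChevalleyStructure Cfsg.Agent.ChevalleyStructure.Elts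
  Cfsg.Agent.ChevalleyStructure.NConj Cfsg.Agent.ChevalleyStructure.BNChev Cfsg.Agent.S1042
  Cfsg.Agent.Schreier.BNSch Cfsg.Agent.Schreier.ChevLocal Cfsg.Agent.Schreier.ChevSch

universe u

variable {D : ChevalleyDatum} (hD : InList D) (F : Type u) [Field F]

/-- The (B, N)-pair with its representatives indexed by the fundamental roots. -/
theorem exists_bn : ∃ P : BNPair ↥(D.group F), P.B = BB D F ∧ P.N = (D.monomialSubgroup F).subgroupOf (D.group F) ∧
    P.S = Set.range (nn hD F) := by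
  obtain ⟨P, hPB, hPN, hPS⟩ := S1042.result (F := F) D hD
  refine ⟨P, hPB, hPN, ?_⟩
  rw [hPS]
  ext g
  constructor
  · rintro ⟨i, hi, hg⟩
    exact ⟨⟨i, hi⟩, Subtype.ext ((eq_nG_iff hD _ _ _).2 hg).symm⟩
  · rintro ⟨i, rfl⟩
    exact ⟨i, i.2, coe_nG hD _ _⟩

theorem nn_injective : Function.Injective (nn hD F) := by
  intro i j hij
  apply Fin.ext
  apply eq_of_inv_mul_mem (F := F) hD i.2 j.2
  have h1 : nS hD F i = nS hD F j := congrArg (fun g : ↥(D.group F) => (g : GL D.Idx F)) hij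
  rw [h1, inv_mul_cancel]
  exact one_mem _

variable {F}

/-- The node data. -/
theorem node (P : BNPair ↥(D.group F)) (hPB : P.B = BB D F) (i : Fin D.rank) :
    Node P (UU D F) (nn hD F i) (VV D F i) := by
  have hn := nn_mem_normalizer hD F i
  refine ⟨VV_le F i, ⟨xx hD i 1, xG_mem_posUnipotent hD (simple_pos hD i.2) 1, fun h =>
    one_ne_zero (eq_zero_of_xx_mem hD i h)⟩, ?_, ?_, ?_⟩
  · intro b hb v hv
    rw [hPB] at hb
    exact (Subgroup.mem_normalizer_iff.1 (BB_le_normalizer F hD i.2 hb) v).1 hv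
  · intro v hv
    have h1 := (Subgroup.mem_normalizer_iff.1 (inv_mem hn) v).1 hv
    rwa [inv_inv] at h1
  · intro u hu h
    rw [hPB] at h
    exact mem_VV_of_conj hD i hu h

/-- Every element of `U` is uniquely `v x_p(t)` modulo `V`: `U/V` is the additive group of `F`. -/
theorem xx_mem_UU (i : Fin D.rank) (t : F) : xx hD i t ∈ UU D F :=
  xG_mem_posUnipotent hD (simple_pos hD i.2) t

end Cfsg.Agent.Schreier.ChevNode

end

-- merged: Cfsg.Agent.Mrg.Omega.TwoF.GTwoOut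
section

section


/-!
# The outer part of the 2-rank of `Aut G₂(q)`, `q` odd (TABLE 2F)

The torus of `G₂(q)` induces all pairs of scalars on the two fundamental root groups; so `OutRk 3`, and `OutRk 1` if the
field has no automorphisms.
-/

set_option autoImplicit false

namespace Cfsg.Agent.Omega.TwoF.GTwoOut

open Cfsg Cfsg.Lie Cfsg.Agent.ChevalleyStructure Cfsg.Agent.ChevalleyStructure.Elts
  Cfsg.Agent.ChevalleyStructure.NConj Cfsg.Agent.ChevalleyStructure.BNChev Cfsg.Agent.S1042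
  Cfsg.Agent.Schreier.Basic Cfsg.Agent.Schreier.Tools Cfsg.Agent.Schreier.BNSch Cfsg.Agent.Schreier.BNUse
  Cfsg.Agent.Schreier.ChevLocal Cfsg.Agent.Schreier.ChevSch Cfsg.Agent.Omega.TwoF.Out
  Cfsg.Agent.Omega.TwoF.GTwoLB

universe u

variable {F : Type u} [Field F]

theorem H_mem {i : ℕ} (hi : i < 2) {c : F} (hc : c ≠ 0) : H i c ∈ HH chevG2 F :=
  hG_mem_diagonal inG2 (simple_lt inG2 hi) hc

/-- the torus induces all pairs of scalars -/
theorem torus (l : Fin chevG2.rank → F) (hl : ∀ i, l i ≠ 0) :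
    ∃ h ∈ HH chevG2 F, ∀ i : Fin chevG2.rank, ∀ t, h * xx inG2 i t * h⁻¹ = xx inG2 i (l i * t) := by
  have h0 : l ⟨0, by decide⟩ ≠ 0 := hl _
  have h1 : l ⟨1, by decide⟩ ≠ 0 := hl _
  obtain ⟨a, ha⟩ : ∃ a, a = l ⟨0, by decide⟩ := ⟨_, rfl⟩
  obtain ⟨b, hb⟩ : ∃ b, b = l ⟨1, by decide⟩ := ⟨_, rfl⟩
  rw [← ha] at h0
  rw [← hb] at h1
  have hu : a ^ 2 * b ≠ 0 := mul_ne_zero (pow_ne_zero 2 h0) h1
  have hv : a ^ 3 * b ^ 2 ≠ 0 := mul_ne_zero (pow_ne_zero 3 h0) (pow_ne_zero 2 h1)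
  have key : ∀ s : ℕ, s < 12 → ∀ t, H 0 (a ^ 2 * b) * H 1 (a ^ 3 * b ^ 2) * X s t *
      (H 0 (a ^ 2 * b) * H 1 (a ^ 3 * b ^ 2))⁻¹ =
      X s ((a ^ 2 * b) ^ (chevG2.cartan 0 s) * ((a ^ 3 * b ^ 2) ^ (chevG2.cartan 1 s) * t)) := by
    intro s hs t
    have e : H 0 (a ^ 2 * b) * H 1 (a ^ 3 * b ^ 2) * X s t * (H 0 (a ^ 2 * b) * H 1 (a ^ 3 * b ^ 2))⁻¹ =
        H 0 (a ^ 2 * b) * (H 1 (a ^ 3 * b ^ 2) * X s t * (H 1 (a ^ 3 * b ^ 2))⁻¹) * (H 0 (a ^ 2 * b))⁻¹ := by group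
    rw [e, H_conj (by norm_num) hs hv, H_conj (by norm_num) hs hu]
  refine ⟨H 0 (a ^ 2 * b) * H 1 (a ^ 3 * b ^ 2), mul_mem (H_mem (by norm_num) hu) (H_mem (by norm_num) hv), ?_⟩
  intro i t
  obtain ⟨i, hi⟩ := i
  have hi' : i < 2 := hi
  interval_cases i
  · rw [← ha]
    show H 0 (a ^ 2 * b) * H 1 (a ^ 3 * b ^ 2) * X 7 t * (H 0 (a ^ 2 * b) * H 1 (a ^ 3 * b ^ 2))⁻¹ = X 7 (a * t)
    rw [key 7 (by norm_num)]
    have e0 : chevG2.cartan 0 7 = 2 := by decide
    have e1 : chevG2.cartan 1 7 = -1 := by decide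
    rw [e0, e1]
    congr 1
    rw [zpow_neg_one, zpow_ofNat]
    field_simp
  · rw [← hb]
    show H 0 (a ^ 2 * b) * H 1 (a ^ 3 * b ^ 2) * X 6 t * (H 0 (a ^ 2 * b) * H 1 (a ^ 3 * b ^ 2))⁻¹ = X 6 (b * t)
    rw [key 6 (by norm_num)]
    have e0 : chevG2.cartan 0 6 = -3 := by decide
    have e1 : chevG2.cartan 1 6 = 2 := by decide
    rw [e0, e1]
    congr 1
    rw [zpow_neg, zpow_ofNat, zpow_ofNat]
    field_simp

/-- **The outer part of the 2-rank.** -/
theorem outRk [Finite F] [IsSimpleGroup ↥(chevG2.group F)] (h2 : (2 : F) ≠ 0) :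
    OutRk ↥(chevG2.group F) 3 ∧ ((∀ σ : RingAut F, σ = 1) → OutRk ↥(chevG2.group F) 1) := by
  classical
  have := Fintype.ofFinite F
  obtain ⟨P, hPB, hPN, hPS⟩ := Cfsg.Agent.Schreier.ChevNode.exists_bn inG2 F
  obtain ⟨p, hp⟩ := CharP.exists F
  have hpp : Fact p.Prime := ⟨CharP.char_is_prime F p⟩
  have hp2 : p ≠ 2 := by
    rintro rfl
    exact h2 (by exact_mod_cast CharP.cast_eq_zero F 2)
  have hcore := core_eq_bot P (by rw [hPS]; exact ⟨_, ⟨0, by decide⟩, rfl⟩)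
  have hHN : HH chevG2 F ≤ P.N := by
    rw [hPN]
    exact fun h hh => diagonal_le_monomial chevG2 F hh
  have hHB : HH chevG2 F ≤ P.B := by
    rw [hPB]
    exact fun h hh => Subgroup.mem_sup_right hh
  have hdec : ∀ b ∈ P.B, ∃ u ∈ UU chevG2 F, ∃ h ∈ HH chevG2 F, b = u * h := by
    intro b hb
    rw [hPB] at hb
    exact exists_mul F inG2 hb
  have hBN : ∀ h ∈ P.B, h ∈ P.N → h ∈ HH chevG2 F := by
    intro h h1 h2
    rw [hPB] at h1
    rw [hPN] at h2
    have h3 : (h : GL chevG2.Idx F) ∈ chevG2.borelSubgroup F ⊓ chevG2.monomialSubgroup F := ⟨h1, h2⟩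
    rw [(S1040.result (F := F) chevG2 inG2).2] at h3
    exact h3
  have hcop : ¬ p ∣ (Fintype.card F - 1) ^ chevG2.rank := by
    intro h
    have h1 := hpp.out.dvd_of_dvd_pow h
    obtain ⟨n, -, hn⟩ := FiniteField.card F p
    have h2 : p ∣ Fintype.card F := by
      rw [hn]
      exact dvd_pow_self p n.ne_zero
    have h3 : 1 < Fintype.card F := Fintype.one_lt_card
    have h4 : p ∣ Fintype.card F - (Fintype.card F - 1) := Nat.dvd_sub h2 h1
    rw [Nat.sub_sub_self h3.le] at h4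
    exact hpp.out.one_lt.ne' (Nat.dvd_one.1 h4)
  have hnode : ∀ i : Fin chevG2.rank, Node P (UU chevG2 F) (nn inG2 F i) (VV chevG2 F i) ∧
      ∀ D : Subgroup (MulAut ↥(chevG2.group F)), Inv D (UU chevG2 F) → Inv D P.B → Inv D (VV chevG2 F i) →
      ∃ f : D → F → F, Semi D f ∧
        (∀ (φ : D) t, (xx inG2 i (f φ t))⁻¹ * (φ : MulAut ↥(chevG2.group F)) (xx inG2 i t) ∈ VV chevG2 F i) ∧
        ∀ φ (hφ : φ ∈ D), (∀ t, f ⟨φ, hφ⟩ t = t) → ∀ u ∈ UU chevG2 F, u⁻¹ * φ u ∈ VV chevG2 F i := by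
    intro i
    have hsn := nn_mem_normalizer inG2 F i
    refine node_semi_of_field P (UU chevG2 F) (HH chevG2 F) (VV chevG2 F i) (nn inG2 F i) hdec hHB (xx inG2 i) ?_
      (xx_add inG2 i) (VV_le F i) ?_ ?_ ?_ ?_ ?_ ?_ ?_ ?_
    · intro t
      exact xG_mem_posUnipotent inG2 (simple_pos inG2 i.2) t
    · intro u hu
      obtain ⟨v, hv, t, he⟩ := decomp inG2 i.2 (g := (u : GL chevG2.Idx F)) hu
      exact ⟨⟨v, comp_le inG2 i hv⟩, hv, t, Subtype.ext he⟩
    · intro t v hv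
      have h1 : xx inG2 i t ∈ Subgroup.normalizer ((VV chevG2 F i : Subgroup ↥(chevG2.group F)) :
          Set ↥(chevG2.group F)) :=
        BB_le_normalizer F inG2 i.2 (UU_le F (xG_mem_posUnipotent inG2 (simple_pos inG2 i.2) t))
      exact (Subgroup.mem_normalizer_iff.1 h1 v).1 hv
    · intro h hh v hv
      have h1 : h ∈ Subgroup.normalizer ((VV chevG2 F i : Subgroup ↥(chevG2.group F)) : Set ↥(chevG2.group F)) :=
        BB_le_normalizer F inG2 i.2 (Subgroup.mem_sup_right hh)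
      exact (Subgroup.mem_normalizer_iff.1 h1 v).1 hv
    · intro v hv
      have h1 := (Subgroup.mem_normalizer_iff.1 (inv_mem hsn) v).1 hv
      rwa [inv_inv] at h1
    · rw [hPB]
      exact (VV_le F i).trans (UU_le F)
    · intro t ht
      rw [hPB] at ht
      exact eq_zero_of_xx_mem inG2 i (mem_VV_of_conj inG2 i (xG_mem_posUnipotent inG2 (simple_pos inG2 i.2) t) ht)
    · intro h hh
      obtain ⟨c, -, hc⟩ := diagonal_conj inG2 hh (simple_lt inG2 i.2)
      exact ⟨c, fun t => Subtype.ext (hc t)⟩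
    · intro c hc
      refine ⟨⟨hG inG2 (chevG2.simple i) c, hG_mem_group inG2 _ _⟩, hG_mem_diagonal inG2 (simple_lt inG2 i.2) hc, ?_⟩
      apply Subtype.ext
      show hG inG2 (chevG2.simple i) c * xG inG2 (chevG2.simple i) 1 * (hG inG2 (chevG2.simple i) c)⁻¹ =
        xG inG2 (chevG2.simple i) (c ^ 2)
      rw [mul_inv_eq_iff_eq_mul]
      refine Units.ext ?_
      rw [Units.val_mul, Units.val_mul, coe_xG, coe_xG, coe_hG]
      have h1 := S1032.result chevG2 inG2 i (chevG2.simple i) i.2 (simple_lt inG2 i.2) c hc 1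
      rw [(RootComb.good_of_mem inG2).cartan_simple i.2, mul_one] at h1
      exact_mod_cast h1
  have hcard : Nat.card P.S ≤ 2 := by
    rw [hPS]
    refine (Nat.card_coe_set_eq _).trans_le ?_
    rw [← Set.image_univ]
    refine (Set.ncard_image_le Set.finite_univ).trans ?_
    rw [Set.ncard_univ, Nat.card_fin]
    exact le_refl 2
  have h := outRk_of_torus P hp2 (UU chevG2 F) (HH chevG2 F) (isPGroup_UU F inG2 (p := p)) hcore
    (by rw [hPB]; exact UU_le F)
    (by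
      intro b hb u hu
      rw [hPB] at hb
      exact conj_mem_UU F inG2 hb hu)
    (by
      intro b hb
      obtain ⟨u, hu, h, hh, rfl⟩ := hdec b hb
      refine ⟨u, hu, ?_⟩
      rw [inv_mul_cancel_left]
      exact hHN hh)
    hHB ((Fintype.card F - 1) ^ chevG2.rank) hcop
    (fun h h1 h2 => pow_eq_one F inG2 (hBN h h1 h2))
    (nn inG2 F) hPS (Cfsg.Agent.Schreier.ChevNode.nn_injective inG2 F) (fun i => VV chevG2 F i) (fun i => (hnode i).1)
    (fun i => xx inG2 i) (fun i u hu => exists_xx inG2 i hu) (fun i => (hnode i).2) torus 1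
    (by
      intro D hD _ hDB
      refine (perm_le P hD hDB).trans (Nat.pow_le_pow_right (by norm_num) ?_)
      have h2p : Fact (Nat.Prime 2) := ⟨Nat.prime_two⟩
      have h3 : padicValNat 2 (Nat.card P.S).factorial ≤ padicValNat 2 (Nat.factorial 2) :=
        (padicValNat_dvd_iff_le (Nat.factorial_ne_zero 2)).1 (pow_padicValNat_dvd.trans
          (Nat.factorial_dvd_factorial hcard))
      refine h3.trans ?_
      rw [Nat.factorial_two, padicValNat_self])
  have e : Fintype.card (Fin chevG2.rank) = 2 := by decide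
  rw [e] at h
  exact ⟨h.1, fun hσ => by simpa using h.2 hσ⟩

end Cfsg.Agent.Omega.TwoF.GTwoOut

end

section


/-!
# TABLE 2F: the groups `G₂(q)`, `q` odd

`RK 4` if the field is prime (inner part 3, outer part 1), `RK 6` in general; `LB (ord_p(2) q)`, so `LB 18` if the
field is not prime.
-/

set_option autoImplicit false

namespace Cfsg.Agent.Omega.TwoF.RowGTwo

open Cfsg Cfsg.Lie

universe u v

theorem two_ne {F : Type*} [Field F] {p : ℕ} [CharP F p] (hp : p.Prime) (hp2 : p ≠ 2) : (2 : F) ≠ 0 := by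
  intro h
  have h3 : ((2 : ℕ) : F) = 0 := by exact_mod_cast h
  rw [CharP.cast_eq_zero_iff F p] at h3
  exact hp2 ((Nat.prime_dvd_prime_iff_eq hp Nat.prime_two).1 h3)

theorem two_le_order {p : ℕ} (hp : p.Prime) (hp2 : p ≠ 2) : 2 ≤ orderOf (2 : ZMod p) := by
  haveI : Fact p.Prime := ⟨hp⟩
  have h2 : (2 : ZMod p) ≠ 0 := two_ne hp hp2
  have h4 : 0 < orderOf (2 : ZMod p) := by
    rw [orderOf_pos_iff, isOfFinOrder_iff_pow_eq_one]
    exact ⟨p - 1, by have := hp.two_le; omega, ZMod.pow_card_sub_one_eq_one h2⟩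
  have h5 : orderOf (2 : ZMod p) ≠ 1 := by
    intro h
    rw [orderOf_eq_one_iff] at h
    have h6 : (1 : ZMod p) = 0 := by
      have : (2 : ZMod p) = 1 + 1 := by norm_num
      rw [this] at h
      simpa using h
    exact one_ne_zero h6
  omega

/-- in a field with more than `p` elements there are at least `p²` -/
theorem card_cases {F : Type*} [Field F] [Fintype F] {p : ℕ} [CharP F p] (hp2 : p ≠ 2) :
    (∀ σ : RingAut F, σ = 1) ∨ 9 ≤ Fintype.card F := by
  obtain ⟨n, hp, hn⟩ := FiniteField.card F p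
  have h3 : 3 ≤ p := by
    have := hp.two_le
    omega
  by_cases h1 : (n : ℕ) = 1
  · left
    apply Out.ringAut_eq_one
    rw [Nat.card_eq_fintype_card, hn, h1, pow_one]
    exact hp
  · right
    have h4 : 2 ≤ (n : ℕ) := by
      have := n.pos
      omega
    rw [hn]
    calc 9 = 3 ^ 2 := by norm_num
      _ ≤ p ^ 2 := Nat.pow_le_pow_left h3 2
      _ ≤ p ^ (n : ℕ) := Nat.pow_le_pow_right (by omega) h4

section

variable {F : Type v} [Field F]

theorem simple' (h2 : (2 : F) ≠ 0) : IsSimpleGroup ↥(chevG2.group F) ∧ ¬ IsMulCommutative ↥(chevG2.group F) := by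
  refine S1055.result ⟨-1, neg_ne_zero.2 one_ne_zero, fun h => h2 ?_⟩
  have : (2 : F) = 1 - (-1) := by ring
  rw [this, h, sub_self]

theorem center_eq_bot (h2 : (2 : F) ≠ 0) : Subgroup.center ↥(chevG2.group F) = ⊥ := by
  obtain ⟨h1, h3⟩ := simple' h2
  rcases h1.eq_bot_or_eq_top_of_normal (Subgroup.center ↥(chevG2.group F)) inferInstance with h | h
  · exact h
  · exact absurd ⟨⟨fun a b => (Subgroup.mem_center_iff.1 (h ▸ Subgroup.mem_top a : a ∈ Subgroup.center _) b).symm⟩⟩ h3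

variable [Fintype F]

theorem odd_card {p : ℕ} [CharP F p] (hp2 : p ≠ 2) : Odd (Fintype.card F) := by
  obtain ⟨n, hp, hn⟩ := FiniteField.card F p
  rw [hn]
  exact (hp.odd_of_ne_two hp2).pow

/-- the inner part -/
theorem card_le (hF : Odd (Fintype.card F)) (E : Subgroup ↥(chevG2.group F)) (hE : ∀ x ∈ E, x * x = 1) :
    Nat.card E ≤ 2 ^ 3 := by
  have : Finite ↥(chevG2.group F) := inferInstance
  refine GTwoInn.card_le_of_sylow' (fun P => ?_) E hE
  obtain ⟨k, -, h⟩ := ClassificationK.GTwoSylow.exists_equiv hF (S1059.result rfl) P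
  exact ⟨2 * 2 ^ k, by positivity, h⟩

/-- the column RK -/
theorem rk {p : ℕ} [CharP F p] (hp : p.Prime) (hp2 : p ≠ 2) :
    RK ↥(chevG2.group F) 6 ∧ ((∀ σ : RingAut F, σ = 1) → RK ↥(chevG2.group F) 4) := by
  have h2 : (2 : F) ≠ 0 := two_ne hp hp2
  have hs := (simple' h2).1
  have h := GTwoOut.outRk (F := F) h2
  have hi := card_le (F := F) (odd_card hp2)
  exact ⟨Out.rk_of_out hi (center_eq_bot h2) h.1, fun hσ => Out.rk_of_out hi (center_eq_bot h2) (h.2 hσ)⟩

/-- **the groups `G₂(q)`**, `q` odd. -/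
theorem dead2 {p : ℕ} [Fact p.Prime] [CharP F p] (hp2 : p ≠ 2) : Dead2.{u, v} ↥(chevG2.group F) := by
  have hp : p.Prime := Fact.out
  have h2 : (2 : F) ≠ 0 := two_ne hp hp2
  have hs := (simple' h2).1
  obtain ⟨hr6, hr4⟩ := rk (F := F) hp hp2
  rcases card_cases (F := F) (p := p) hp2 with h5 | h5
  · exact Dead2.of_rk (hr4 h5)
  · refine Dead2.of_lb (LB.of_heis (GTwoLB.lb.{v, u, u} (F := F) (p := p) hp2)) hr6 ?_
    have ho := two_le_order hp hp2
    rw [Nat.card_eq_fintype_card]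
    calc 2 * 6 + 2 < 2 * 9 := by norm_num
      _ ≤ orderOf (2 : ZMod p) * Fintype.card F := Nat.mul_le_mul ho h5

theorem kill2 {p : ℕ} [Fact p.Prime] [CharP F p] (hp2 : p ≠ 2) : Kill2.{u, v} ↥(chevG2.group F) := by
  have h2 : (2 : F) ≠ 0 := two_ne (p := p) Fact.out hp2
  have hs := (simple' h2).1
  exact (dead2 (p := p) hp2).kill (center_eq_bot h2) hs.toNontrivial

end

/-- **the row `G₂(q)`**, `q` odd, for any isomorphic copy. -/
theorem kill {K : Type u} [Group K] {F : Type} [Field F] [Fintype F] {p : ℕ} [CharP F p] (hp : p.Prime) (hp2 : p ≠ 2)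
    (e : Nonempty (K ≃* ↥(chevG2.group F))) : Kill2.{u} K := by
  have : Fact p.Prime := ⟨hp⟩
  obtain ⟨e⟩ := e
  exact (kill2.{u, 0} (F := F) (p := p) hp2).equiv e

end Cfsg.Agent.Omega.TwoF.RowGTwo

end

end
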