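import Cfsg.Agent.HN.Rep
import Cfsg.Agent.HN.H0Basic
import Cfsg.Agent.Omega.Lie.HeisCover
import Cfsg.Agent.Mrg.Omega.TwoF.Bridge
import Cfsg.Agent.KFacts.HN.Sheet
import Cfsg.Agent.S1701
import Cfsg.Agent.KFacts.HS.Sheet2

-- merged: Cfsg.Agent.Omega.TwoF.HN5.Rel
section

set_option autoImplicit false

/-!
# TABLE 2F, row `HN`: one relation in the Harada–Norton group (helper473)

`s t s⁻¹ t⁻¹ = z₀`, `s = h⁻¹ t h`, `h = z y z y x⁻¹ y z`, `z₀ ∈ ⟨x, y⟩`, checked in the 133-dimensional representation.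
-/

namespace Cfsg.Agent.Omega.TwoF.RowHN

open Cfsg.Agent.Lib.PackMat Cfsg.Agent.Lib.PackMatGroup Cfsg.Agent.HN.RepData
open Cfsg.Agent.HN.Rep (L LG gens rho good one_lt codes rho_word)

/-- the word `h` -/
def wh : List ℕ := [4, 2, 4, 2, 1, 2, 4]
/-- the word `h⁻¹` -/
def whi : List ℕ := [4, 3, 0, 3, 4, 3, 4]
/-- the word `z₀` -/
def wz : List ℕ := [0, 2, 2, 0, 2, 0, 2, 0, 3, 0, 3, 3, 0, 3, 0, 3, 0, 2]
/-- the word `z₀⁻¹` -/
def wzi : List ℕ := [3, 1, 2, 1, 2, 1, 2, 2, 1, 2, 1, 3, 1, 3, 1, 3, 3, 1]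
/-- the relator -/
def wr : List ℕ := whi ++ [6] ++ wh ++ [6] ++ whi ++ [7] ++ wh ++ [7] ++ wzi

theorem c0 : checkScalar C (cw L wr) 1 0 19 = true := by decide +kernel
theorem c1 : checkScalar C (cw L wr) 1 19 19 = true := by decide +kernel
theorem c2 : checkScalar C (cw L wr) 1 38 19 = true := by decide +kernel
theorem c3 : checkScalar C (cw L wr) 1 57 19 = true := by decide +kernel
theorem c4 : checkScalar C (cw L wr) 1 76 19 = true := by decide +kernel
theorem c5 : checkScalar C (cw L wr) 1 95 19 = true := by decide +kernel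
theorem c6 : checkScalar C (cw L wr) 1 114 19 = true := by decide +kernel

theorem relM : evG LG wr = 1 := by
  refine eq_one_of_rows good one_lt codes (by decide) fun i hi => ?_
  have hi' : i < 133 := hi
  rcases lt_or_ge i 19 with h0 | h0
  · exact checkScalar_spec c0 i (Nat.zero_le _) h0
  rcases lt_or_ge i 38 with h1 | h1
  · exact checkScalar_spec c1 i h0 h1
  rcases lt_or_ge i 57 with h2 | h2
  · exact checkScalar_spec c2 i h1 h2
  rcases lt_or_ge i 76 with h3 | h3
  · exact checkScalar_spec c3 i h2 h3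
  rcases lt_or_ge i 95 with h4 | h4
  · exact checkScalar_spec c4 i h3 h4
  rcases lt_or_ge i 114 with h5 | h5
  · exact checkScalar_spec c5 i h4 h5
  exact checkScalar_spec c6 i h5 (by omega)

theorem z_neM : evG LG wz ≠ 1 := by
  refine ne_of_row good codes (w₂ := []) (by decide) (by decide) (R := unitRow C 1 0)
    (unitRow_ok (C := C) (c := 1) (i := 0) (good_of_check good) one_lt (by decide)).1 ?_
  intro h
  have h1 : Nat.beq (run C (cw L wz) (unitRow C 1 0)) (run C (cw L []) (unitRow C 1 0)) = false := by decide +kernel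
  rw [h, Nat.beq_refl] at h1
  exact absurd h1 (by simp)

/-- the representation is faithful -/
theorem rho_injective (hs : IsSimpleGroup Cfsg.Spor.HN) : Function.Injective rho := by
  rw [← MonoidHom.ker_eq_bot_iff]
  rcases (inferInstance : rho.ker.Normal).eq_bot_or_eq_top with h | h
  · exact h
  · exfalso
    apply z_neM
    rw [← rho_word, ← MonoidHom.mem_ker, h]
    exact Subgroup.mem_top _

/-- the relation -/
theorem rel (hs : IsSimpleGroup Cfsg.Spor.HN) : evG gens wr = 1 := by
  apply rho_injective hs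
  rw [rho_word, relM, map_one]

theorem z_ne : evG gens wz ≠ 1 := by
  intro h
  apply z_neM
  rw [← rho_word, h, map_one]

end Cfsg.Agent.Omega.TwoF.RowHN

end

-- merged: Cfsg.Agent.Omega.TwoF.HN5.Heis
section

set_option autoImplicit false

/-!
# TABLE 2F, row `HN`: an extraspecial group of order `5^5` in the Harada–Norton group (helper473)
-/

namespace Cfsg.Agent.Omega.TwoF.RowHN

open Cfsg.Agent.HN Cfsg.Agent.HN.Pres Cfsg.Agent.HN.P1408 Cfsg.Agent.HN.H0Basic
open Cfsg.Agent.Omega.Lie.Heis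
open Cfsg.Agent.Lib.PackMatGroup (evG evG_append evG_cons evG_nil)

/-- the map from `H0` -/
def psi : H0 →* Cfsg.Spor.HN := lift rels_HN

theorem psi_x : psi gx = Pres.hx := lift_gx _
theorem psi_y : psi gy = Pres.hy := lift_gy _
theorem psi_z : psi gz = Pres.hz := lift_gz _

theorem t5 : ht ^ 5 = 1 := mk_extra (by simp [Cfsg.Spor.HN.extra])
theorem xt : (hx⁻¹ * ht * hx) * ht ^ 2 = 1 := mk_extra (by simp [Cfsg.Spor.HN.extra])
theorem ty : ht⁻¹ * hy⁻¹ * ht * hy = 1 := mk_extra (by simp [Cfsg.Spor.HN.extra])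

/-- a word of `H0` in `HN` -/
def pw (a : List ℕ) : Cfsg.Spor.HN := psi (hw a)

theorem pw_append (a c : List ℕ) : pw (a ++ c) = pw a * pw c := by rw [pw, hw_append, map_mul]; rfl
theorem pw_nil : pw [] = 1 := by rw [pw, hw_nil, map_one]
theorem pw_eq {a c : List ℕ} (h : eqw a c = true) : pw a = pw c := congrArg psi (hw_eq h)
theorem pw_iw (a : List ℕ) : pw (iw a) = (pw a)⁻¹ := by rw [pw, hw_iw, map_inv]; rfl

theorem pw_pow (a : List ℕ) (n : ℕ) : pw (List.replicate n a).flatten = pw a ^ n := by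
  induction n with
  | zero => rw [List.replicate_zero, List.flatten_nil, pw_nil, pow_zero]
  | succ n ih => rw [List.replicate_succ, List.flatten_cons, pw_append, ih, pow_succ']

/-- the exponent by which a word in `x`, `y` acts on `t` -/
def ex : List ℕ → ℕ
  | [] => 1
  | l :: a => (if l = 0 then 3 else if l = 1 then 2 else if l = 2 then 1 else if l = 3 then 1 else 0) * ex a % 5

theorem conj_letter {l : ℕ} (hl : l < 4) :
    (pw [l])⁻¹ * ht * pw [l] = ht ^ (if l = 0 then 3 else if l = 1 then 2 else if l = 2 then 1 else if l = 3 then 1 else 0) := by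
  have hx1 : hx⁻¹ * ht * hx = ht ^ 3 := by
    have h1 := xt
    rw [← eq_mul_inv_iff_mul_eq, one_mul] at h1
    rw [h1, inv_eq_iff_mul_eq_one, ← pow_add]
    exact t5
  have hy1 : hy⁻¹ * ht * hy = ht := by
    have h1 := ty
    rw [mul_assoc, mul_assoc, inv_mul_eq_one] at h1
    rw [mul_assoc]
    exact h1.symm
  have e : ∀ l, pw [l] = letG hx hy hz l := by
    intro l
    rw [pw, hw, ev_cons, ev_nil, mul_one, map_letG, psi_x, psi_y, psi_z]
  rw [e]
  have h0 : l = 0 ∨ l = 1 ∨ l = 2 ∨ l = 3 := by omega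
  rcases h0 with rfl | rfl | rfl | rfl
  · exact hx1
  · change hx⁻¹⁻¹ * ht * hx⁻¹ = ht ^ 2
    rw [inv_inv]
    have h1 : hx⁻¹ * ht ^ 2 * hx = ht := by
      have h2 : hx⁻¹ * ht ^ 2 * hx = (hx⁻¹ * ht * hx) ^ 2 := by rw [pow_two, pow_two]; group
      rw [h2, hx1, ← pow_mul]
      change ht ^ 6 = ht
      rw [pow_succ, t5, one_mul]
    have h3 : ht = hx * (hx⁻¹ * ht * hx) * hx⁻¹ := by group
    calc hx * ht * hx⁻¹ = hx * (hx⁻¹ * ht ^ 2 * hx) * hx⁻¹ := by rw [h1]
      _ = ht ^ 2 := by group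
  · change hy⁻¹ * ht * hy = ht ^ 1
    rw [pow_one, hy1]
  · change hy⁻¹⁻¹ * ht * hy⁻¹ = ht ^ 1
    rw [inv_inv, pow_one]
    calc hy * ht * hy⁻¹ = hy * (hy⁻¹ * ht * hy) * hy⁻¹ := by rw [hy1]
      _ = ht := by group

theorem conj_word (a : List ℕ) (ha : ∀ l ∈ a, l < 4) : (pw a)⁻¹ * ht * pw a = ht ^ ex a := by
  induction a with
  | nil => rw [pw_nil, ex, inv_one, one_mul, mul_one, pow_one]
  | cons l a ih =>
    have h1 : pw (l :: a) = pw [l] * pw a := pw_append [l] a
    have h2 := conj_letter (ha l (List.mem_cons_self ..))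
    have h3 := ih fun m hm => ha m (List.mem_cons_of_mem _ hm)
    rw [h1]
    set k := (if l = 0 then 3 else if l = 1 then 2 else if l = 2 then 1 else if l = 3 then 1 else 0) with hk
    calc (pw [l] * pw a)⁻¹ * ht * (pw [l] * pw a) = (pw a)⁻¹ * ((pw [l])⁻¹ * ht * pw [l]) * pw a := by group
      _ = (pw a)⁻¹ * ht ^ k * pw a := by rw [h2]
      _ = ((pw a)⁻¹ * ht * pw a) ^ k := by
          have : (pw a)⁻¹ * ht * pw a = (pw a)⁻¹ * ht * (pw a)⁻¹⁻¹ := by rw [inv_inv]
          rw [this, conj_pow, inv_inv]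
      _ = (ht ^ ex a) ^ k := by rw [h3]
      _ = ht ^ (k * ex a) := by rw [← pow_mul, mul_comm]
      _ = ht ^ ex (l :: a) := by
          rw [ex, ← hk]
          conv_lhs => rw [← Nat.mod_add_div (k * ex a) 5, pow_add, pow_mul ht 5, t5, one_pow, mul_one]

theorem comm_t {a : List ℕ} (ha : (a.all fun l => decide (l < 4)) = true) (h : ex a = 1) : pw a * ht = ht * pw a := by
  have h1 := conj_word a (fun l hl => of_decide_eq_true (List.all_eq_true.1 ha l hl))
  rw [h, pow_one, mul_assoc, inv_mul_eq_iff_eq_mul] at h1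
  exact h1.symm

/-! ### the words -/

/-- the word `x₂` -/
def wx : List ℕ := [3, 0, 2, 0, 2, 0, 3, 3, 0]
/-- the word `y₂` -/
def wy : List ℕ := [0, 3, 3, 0, 3, 0, 0]
/-- `h z₀ h⁻¹` -/
def wzh : List ℕ := [2, 0, 2, 0, 2, 2, 0, 3, 3, 0, 3, 0, 3, 0, 2, 0, 2, 0, 2, 2, 2, 0, 2, 0, 2, 0, 0]
/-- `h x₂ h⁻¹` -/
def wxh : List ℕ := [2, 2, 0, 2, 2, 2, 0, 3, 0, 3, 0, 3, 3, 0, 3, 0, 3, 3, 0, 0]

theorem k1 : eqw (List.replicate 5 wz).flatten [] = true := by decide +kernel
theorem k2 : eqw (List.replicate 5 wx).flatten [] = true := by decide +kernel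
theorem k3 : eqw (wz ++ wx) (wx ++ wz) = true := by decide +kernel
theorem k4 : eqw (wz ++ wy) (wy ++ wz) = true := by decide +kernel
theorem k5 : eqw (wy ++ wx) (wx ++ wz ++ wy) = true := by decide +kernel
theorem k6 : eqw (wh ++ wz) (wzh ++ wh) = true := by decide +kernel
theorem k7 : eqw (wh ++ wx) (wxh ++ wh) = true := by decide +kernel

/-- the element `s = h⁻¹ t h` -/
def sE : Cfsg.Spor.HN := (pw wh)⁻¹ * ht * pw wh

theorem tz : ht * pw wz = pw wz * ht := (comm_t (by decide) (by decide)).symm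
theorem tx : ht * pw wx = pw wx * ht := (comm_t (by decide) (by decide)).symm
theorem tY : ht * pw wy = pw wy * ht := (comm_t (by decide) (by decide)).symm

theorem s_comm {a c : List ℕ} (h1 : pw wh * pw a = pw c * pw wh) (h2 : ht * pw c = pw c * ht) :
    sE * pw a = pw a * sE := by
  have h3 : pw a = (pw wh)⁻¹ * pw c * pw wh := by rw [mul_assoc, ← h1]; group
  rw [h3, sE]
  calc (pw wh)⁻¹ * ht * pw wh * ((pw wh)⁻¹ * pw c * pw wh) = (pw wh)⁻¹ * (ht * pw c) * pw wh := by group
    _ = (pw wh)⁻¹ * (pw c * ht) * pw wh := by rw [h2]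
    _ = _ := by group

theorem sz : sE * pw wz = pw wz * sE :=
  s_comm (c := wzh) (by rw [← pw_append, ← pw_append]; exact pw_eq k6) (comm_t (by decide) (by decide)).symm
theorem sx : sE * pw wx = pw wx * sE :=
  s_comm (c := wxh) (by rw [← pw_append, ← pw_append]; exact pw_eq k7) (comm_t (by decide) (by decide)).symm

/-- words in the letters `x`, `y`, `z` -/
theorem evG_gens (a : List ℕ) (ha : ∀ l ∈ a, l < 5) : evG Rep.gens a = pw a := by
  induction a with
  | nil => rw [evG_nil, pw_nil]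
  | cons l a ih =>
    have h1 : pw (l :: a) = pw [l] * pw a := pw_append [l] a
    rw [evG_cons, ih fun m hm => ha m (List.mem_cons_of_mem _ hm), h1]
    congr 1
    have h2 := ha l (List.mem_cons_self ..)
    rw [pw, hw, ev_cons, ev_nil, mul_one, map_letG, psi_x, psi_y, psi_z]
    have h0 : l = 0 ∨ l = 1 ∨ l = 2 ∨ l = 3 ∨ l = 4 := by omega
    rcases h0 with rfl | rfl | rfl | rfl | rfl <;> rfl

theorem st (hs : IsSimpleGroup Cfsg.Spor.HN) : sE * ht * sE⁻¹ = ht * pw wz := by
  have h1 := rel hs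
  have e6 : evG Rep.gens [6] = ht := by rw [evG_cons, evG_nil, mul_one]; rfl
  have e7 : evG Rep.gens [7] = ht⁻¹ := by rw [evG_cons, evG_nil, mul_one]; rfl
  have eh : evG Rep.gens wh = pw wh := evG_gens _ (by decide)
  have ei : evG Rep.gens whi = (pw wh)⁻¹ := by
    rw [evG_gens _ (by decide), ← pw_iw]
    exact pw_eq (by decide +kernel)
  have ez : evG Rep.gens wzi = (pw wz)⁻¹ := by
    rw [evG_gens _ (by decide), ← pw_iw]
    rfl
  rw [wr, evG_append, evG_append, evG_append, evG_append, evG_append, evG_append, evG_append, evG_append, e6, e7, eh,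
    ei, ez] at h1
  have h2 : sE * ht * sE⁻¹ * ht⁻¹ * (pw wz)⁻¹ = 1 := by
    rw [← h1, sE]; group
  rw [mul_inv_eq_one, mul_inv_eq_iff_eq_mul] at h2
  rw [h2, tz]

theorem z_ne' : pw wz ≠ 1 := by
  rw [← evG_gens wz (by decide)]
  exact z_ne

/-- **the Heisenberg configuration** -/
theorem heis (hs : IsSimpleGroup Cfsg.Spor.HN) : Heis 5 2 (pw wz) ![ht, pw wx] ![sE, pw wy] where
  prime := by norm_num
  zr := by rw [← pw_pow, pw_eq k1, pw_nil]
  xr := by
    intro i
    fin_cases i
    · exact t5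
    · change pw wx ^ 5 = 1
      rw [← pw_pow, pw_eq k2, pw_nil]
  zx := by
    intro i
    fin_cases i
    · exact tz.symm
    · change pw wz * pw wx = pw wx * pw wz
      rw [← pw_append, ← pw_append]
      exact pw_eq k3
  zy := by
    intro i
    fin_cases i
    · exact sz.symm
    · change pw wz * pw wy = pw wy * pw wz
      rw [← pw_append, ← pw_append]
      exact pw_eq k4
  xx := by
    intro i j
    fin_cases i <;> fin_cases j
    · rfl
    · exact tx
    · exact tx.symm
    · rfl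
  yx := by
    intro i j h
    fin_cases i <;> fin_cases j
    · exact absurd rfl h
    · exact sx
    · exact tY.symm
    · exact absurd rfl h
  conj := by
    intro i
    fin_cases i
    · exact st hs
    · change pw wy * pw wx * (pw wy)⁻¹ = pw wx * pw wz
      rw [mul_inv_eq_iff_eq_mul, ← pw_append, ← pw_append, ← pw_append]
      exact pw_eq k5

end Cfsg.Agent.Omega.TwoF.RowHN

end

-- merged: Cfsg.Agent.Mrg.Omega.TwoF.RowHN
section

section


set_option autoImplicit false

/-!
# TABLE 2F, row `HN` (helper473)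

`LB 36` through an explicit `5^{1+4}` (`Omega.TwoF.HN5`), `RK 16` through the order of the automorphism group.
-/

namespace Cfsg.Agent.Omega.TwoF.RowHN

open Cfsg.Agent.HN.P1408

universe u v w

theorem orderOf_two_five : orderOf (2 : ZMod 5) = 4 := by
  refine orderOf_eq_prime_pow (p := 2) (n := 1) ?_ ?_ <;> decide

theorem orderOf_two_nineteen : orderOf (2 : ZMod 19) = 18 := by
  refine orderOf_eq_of_pow_and_pow_div_prime (by norm_num) (by decide) ?_
  intro p hp hd
  have h1 : p ∈ Nat.divisors 18 := Nat.mem_divisors.2 ⟨hd, by norm_num⟩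
  have h2 : Nat.divisors 18 = {1, 2, 3, 6, 9, 18} := by decide
  rw [h2] at h1
  simp only [Finset.mem_insert, Finset.mem_singleton] at h1
  rcases h1 with rfl | rfl | rfl | rfl | rfl | rfl
  · exact absurd hp (by norm_num)
  · decide
  · decide
  · exact absurd hp (by norm_num)
  · exact absurd hp (by norm_num)
  · exact absurd hp (by norm_num)

theorem finite_HN : Finite Cfsg.Spor.HN :=
  Nat.finite_of_card_ne_zero (by rw [Cfsg.Agent.S1701.result.2]; norm_num)

theorem lb : Lie.Heis.LB.{0, v, w} Cfsg.Spor.HN 36 := by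
  have hs := Cfsg.Agent.S1701.result.1
  have := finite_HN
  refine Lie.Heis.LB.heis (heis hs) (by norm_num) z_ne' (p := 19) (by norm_num) (by norm_num) ?_ ?_ ?_
  · rw [Cfsg.Agent.S1701.result.2]; norm_num
  · rw [orderOf_two_five]; norm_num
  · rw [orderOf_two_five, orderOf_two_nineteen]; decide

theorem center_eq_bot : Subgroup.center Cfsg.Spor.HN = ⊥ := by
  have hs := Cfsg.Agent.S1701.result.1
  rcases (inferInstance : (Subgroup.center Cfsg.Spor.HN).Normal).eq_bot_or_eq_top with h1 | h1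
  · exact h1
  · exfalso
    have h2 : ∀ a c : Cfsg.Spor.HN, a * c = c * a := by
      intro a c
      have h3 : c ∈ Subgroup.center Cfsg.Spor.HN := by rw [h1]; exact Subgroup.mem_top _
      exact Subgroup.mem_center_iff.1 h3 a
    have h3 := st hs
    rw [h2 sE, mul_inv_cancel_right, eq_comm, mul_eq_left] at h3
    exact z_ne' h3

theorem rk : Rk.RK.{v} Cfsg.Spor.HN 16 := by
  have := finite_HN
  refine Rk.rk_of_elt (e := 15) (k := 0) ?_ 1 (by rw [orderOf_one, pow_zero]) (by norm_num)
  have hc : Nat.card Cfsg.Spor.HN = 2 ^ 14 * 16664484375 := by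
    rw [Cfsg.Agent.S1701.result.2]
    norm_num
  rcases Cfsg.Agent.KFacts.HN.out_index with h | h
  · have h1 := Rk.card_mulAut center_eq_bot h
    rw [h1, hc, one_mul, Nat.factorization_mul (by norm_num) (by norm_num),
      Nat.Prime.factorization_pow Nat.prime_two, Finsupp.add_apply, Finsupp.single_eq_same,
      Nat.factorization_eq_zero_of_not_dvd (by norm_num)]
    norm_num
  · have h1 := Rk.card_mulAut center_eq_bot h
    have h2 : (2 * (2 ^ 14 * 16664484375) : ℕ) = 2 ^ 15 * 16664484375 := by norm_num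
    rw [h1, hc, h2, Nat.factorization_mul (by norm_num) (by norm_num),
      Nat.Prime.factorization_pow Nat.prime_two, Finsupp.add_apply, Finsupp.single_eq_same,
      Nat.factorization_eq_zero_of_not_dvd (by norm_num)]

theorem dead : Dead2.{u} Cfsg.Spor.HN :=
  have := finite_HN
  Dead2.of_lb (LB.of_heis lb) (RK.of_rk center_eq_bot rk) (by norm_num)

/-- **the row `HN` of TABLE 2F** -/
theorem row (K : Type u) [Group K] (h : Cfsg.Spor.IsoHN K) : Kill2.{u} K := by
  obtain ⟨e⟩ := h
  have hs := Cfsg.Agent.S1701.result.1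
  exact (dead.kill center_eq_bot inferInstance).equiv e

end Cfsg.Agent.Omega.TwoF.RowHN

end

section


set_option autoImplicit false

/-!
# TABLE 2F, row `HS` (helper473)

`LB 20` through an explicit `5^{1+2}`, `RK 8` through an element of order 8.
-/

namespace Cfsg.Agent.Omega.TwoF.RowHS

open Cfsg.Agent.HN Cfsg.Agent.HN.Pres Cfsg.Agent.HN.HS100 Cfsg.Agent.HN.H0Basic
open Cfsg.Agent.KFacts.HS Cfsg.Agent.KFacts.HS.Cent
open Cfsg.Agent.HN.P1408 hiding U
open Cfsg.Agent.Omega.Lie.Heis

universe u v w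

/-! ### words -/

/-- an element of order 5 -/
def xw : List ℕ := [0, 2, 0, 2, 2, 0, 0]
/-- an element of order 5 -/
def yw : List ℕ := [0, 3, 0, 2, 0, 2, 0, 3, 3]
/-- the commutator -/
def zw : List ℕ := iw xw ++ yw ++ xw ++ iw yw
/-- an element of order 8 -/
def gw : List ℕ := [0, 2]

theorem xw_mem : hw xw ∈ K := mem_K_of_par (by decide) (by decide)
theorem yw_mem : hw yw ∈ K := mem_K_of_par (by decide) (by decide)
theorem zw_mem : hw zw ∈ K := mem_K_of_par (by decide) (by decide)
theorem gw_mem : hw gw ∈ K := mem_K_of_par (by decide) (by decide)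

theorem pow_eq {a : List ℕ} {n : ℕ} (h : eqw (List.replicate n a).flatten [] = true) : hw a ^ n = 1 := by
  have h1 : ∀ n : ℕ, hw (List.replicate n a).flatten = hw a ^ n := by
    intro n
    induction n with
    | zero => rw [List.replicate_zero, List.flatten_nil, hw_nil, pow_zero]
    | succ n ih => rw [List.replicate_succ, List.flatten_cons, hw_append, ih, pow_succ']
  rw [← h1, hw_eq h, hw_nil]

theorem comm_eq {a c : List ℕ} (h : eqw (a ++ c) (c ++ a) = true) : hw a * hw c = hw c * hw a := by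
  rw [← hw_append, ← hw_append]
  exact hw_eq h

theorem z_eq : hw zw = (hw xw)⁻¹ * hw yw * hw xw * (hw yw)⁻¹ := by
  rw [zw, hw_append, hw_append, hw_append, hw_iw, hw_iw]

theorem z5 : hw zw ^ 5 = 1 := pow_eq (by decide +kernel)
theorem x5 : hw xw ^ 5 = 1 := pow_eq (by decide +kernel)
theorem zx : hw zw * hw xw = hw xw * hw zw := comm_eq (by decide +kernel)
theorem zy : hw zw * hw yw = hw yw * hw zw := comm_eq (by decide +kernel)
theorem z_ne : eqw zw [] = false ∧ eqw zw [0, 0] = false := by decide +kernel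
theorem g_ne : eqw [0, 2, 0, 2, 0, 2, 0, 2] [] = false ∧ eqw [0, 2, 0, 2, 0, 2, 0, 2] [0, 0] = false := by decide +kernel
theorem g8 : eqw (List.replicate 8 gw).flatten [] = true := by decide +kernel

/-! ### the Heisenberg configuration -/

section

variable {L : Type u} [Group L] (D : KFacts.HS.Mod L)

/-- the element `x` -/
def xL : L := D.π ⟨hw xw, xw_mem⟩
/-- the element `y` -/
def yL : L := D.π ⟨hw yw, yw_mem⟩
/-- the element `z` -/
def zL : L := D.π ⟨hw zw, zw_mem⟩
/-- the element of order 8 -/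
def gL : L := D.π ⟨hw gw, gw_mem⟩

theorem π_pow (g : K) (n : ℕ) : D.π g ^ n = D.π (g ^ n) := (map_pow D.π g n).symm

theorem heis : Heis 5 1 (zL D) (fun _ => xL D) (fun _ => yL D) where
  prime := by norm_num
  zr := by
    rw [zL, ← map_pow, Mod.π_eq_one]
    exact Or.inl z5
  xr := fun _ => by
    rw [xL, ← map_pow, Mod.π_eq_one]
    exact Or.inl x5
  zx := fun _ => by
    rw [zL, xL, ← map_mul, ← map_mul]
    exact congrArg D.π (Subtype.ext zx)
  zy := fun _ => by
    rw [zL, yL, ← map_mul, ← map_mul]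
    exact congrArg D.π (Subtype.ext zy)
  xx := fun _ _ => rfl
  yx := fun i j h => absurd (Subsingleton.elim i j) h
  conj := fun _ => by
    rw [zL, yL, xL, ← map_inv, ← map_mul, ← map_mul, ← map_mul]
    refine congrArg D.π (Subtype.ext ?_)
    change hw yw * hw xw * (hw yw)⁻¹ = hw xw * hw zw
    rw [z_eq]
    group

theorem zL_ne : zL D ≠ 1 := by
  rw [zL, Ne, Mod.π_eq_one]
  rintro (h | h)
  · rw [← hw_nil] at h
    exact Bool.noConfusion ((eqw_of_hw_eq (by decide) (by decide) h).symm.trans z_ne.1)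
  · rw [← hw_τ] at h
    exact Bool.noConfusion ((eqw_of_hw_eq (by decide) (by decide) h).symm.trans z_ne.2)

theorem orderOf_g : orderOf (gL D) = 2 ^ 3 := by
  apply orderOf_eq_prime_pow
  · intro h
    rw [gL, ← map_pow, Mod.π_eq_one] at h
    have h1 : ((⟨hw gw, gw_mem⟩ : K) ^ 2 ^ 2 : K) = (⟨hw [0, 2, 0, 2, 0, 2, 0, 2], by
        exact mem_K_of_par (by decide) (by decide)⟩ : K) := by
      apply Subtype.ext
      change hw gw ^ 4 = hw [0, 2, 0, 2, 0, 2, 0, 2]
      have h2 : [0, 2, 0, 2, 0, 2, 0, 2] = gw ++ gw ++ gw ++ gw := rfl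
      rw [h2, hw_append, hw_append, hw_append, pow_succ, pow_succ, pow_succ, pow_one]
    rw [h1] at h
    rcases h with h | h
    · change hw _ = 1 at h
      rw [← hw_nil] at h
      exact Bool.noConfusion ((eqw_of_hw_eq (by decide) (by decide) h).symm.trans g_ne.1)
    · change hw _ = τ at h
      rw [← hw_τ] at h
      exact Bool.noConfusion ((eqw_of_hw_eq (by decide) (by decide) h).symm.trans g_ne.2)
  · rw [gL, ← map_pow, Mod.π_eq_one]
    exact Or.inl (pow_eq g8)

theorem orderOf_two_five : orderOf (2 : ZMod 5) = 4 := by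
  refine orderOf_eq_prime_pow (p := 2) (n := 1) ?_ ?_ <;> decide

theorem orderOf_two_eleven : orderOf (2 : ZMod 11) = 10 := by
  refine orderOf_eq_of_pow_and_pow_div_prime (by norm_num) (by decide) ?_
  intro p hp hd
  have h1 : p ∈ Nat.divisors 10 := Nat.mem_divisors.2 ⟨hd, by norm_num⟩
  have h2 : Nat.divisors 10 = {1, 2, 5, 10} := by decide
  rw [h2] at h1
  simp only [Finset.mem_insert, Finset.mem_singleton] at h1
  rcases h1 with rfl | rfl | rfl | rfl
  · exact absurd hp (by norm_num)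
  · decide
  · decide
  · exact absurd hp (by norm_num)

end

theorem simple {L : Type u} [Group L] (h : Cfsg.Spor.IsoHS L) : IsSimpleGroup L := by
  obtain ⟨⟨f⟩, h1⟩ := AutHS.nonempty_Q
  obtain ⟨e⟩ := h
  have hn : Nontrivial L := (f.trans e.symm).symm.toEquiv.nontrivial
  exact IsSimpleGroup.isSimpleGroup_of_surjective (f.trans e.symm).toMonoidHom (f.trans e.symm).surjective

theorem lb {L : Type u} [Group L] (h : Cfsg.Spor.IsoHS L) : Lie.Heis.LB.{u, v, w} L 20 := by
  obtain ⟨D⟩ := exists_mod h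
  have hfin := D.finite
  have hs := simple h
  refine Lie.Heis.LB.heis (heis D) (by norm_num) (zL_ne D) (p := 11) (by norm_num) (by norm_num) ?_ ?_ ?_
  · rw [D.card]; norm_num
  · rw [orderOf_two_five]; norm_num
  · rw [orderOf_two_five, orderOf_two_eleven]; decide

theorem center_eq_bot {L : Type u} [Group L] (h : Cfsg.Spor.IsoHS L) : Subgroup.center L = ⊥ := by
  obtain ⟨D⟩ := exists_mod h
  have hs := simple h
  rcases (inferInstance : (Subgroup.center L).Normal).eq_bot_or_eq_top with h1 | h1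
  · exact h1
  · exfalso
    have h0 : Subgroup.centralizer ({D.z} : Set L) = ⊤ := by
      rw [eq_top_iff]
      intro x _
      rw [Subgroup.mem_centralizer_singleton_iff]
      have h3 : D.z ∈ Subgroup.center L := by rw [h1]; exact Subgroup.mem_top _
      exact Subgroup.mem_center_iff.1 h3 x
    have h2 := D.card_centralizer
    rw [h0, Subgroup.card_top, D.card] at h2
    exact absurd h2 (by norm_num)

theorem rk {L : Type u} [Group L] (h : Cfsg.Spor.IsoHS L) : Rk.RK.{v} L 8 := by
  obtain ⟨D⟩ := exists_mod h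
  have hfin := D.finite
  have h1 := Rk.card_mulAut (center_eq_bot h) (index_inn h)
  rw [D.card] at h1
  refine Rk.rk_of_elt (e := 10) (k := 3) ?_ (gL D) (orderOf_g D) (by norm_num)
  rw [h1]
  have h2 : (2 * 44352000 : ℕ) = 2 ^ 10 * 86625 := by norm_num
  rw [h2, Nat.factorization_mul (by norm_num) (by norm_num), Nat.Prime.factorization_pow Nat.prime_two,
    Finsupp.add_apply, Finsupp.single_eq_same, Nat.factorization_eq_zero_of_not_dvd (by norm_num)]

theorem dead {L : Type u} [Group L] (h : Cfsg.Spor.IsoHS L) : Dead2.{u} L :=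
  have : Finite L := (exists_mod h).elim fun D => D.finite
  Dead2.of_lb (LB.of_heis (lb h)) (RK.of_rk (center_eq_bot h) (rk h)) (by norm_num)

/-- **the row `HS` of TABLE 2F** -/
theorem row (L : Type u) [Group L] (h : Cfsg.Spor.IsoHS L) : Kill2.{u} L :=
  have := simple h
  (dead h).kill (center_eq_bot h) inferInstance

end Cfsg.Agent.Omega.TwoF.RowHS

end

end
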