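import Cfsg.Agent.KFacts.J2.Facts
import Cfsg.Agent.KFacts.J2.Aut
import Cfsg.Agent.Omega.KFacts
import Cfsg.Agent.Mrg.Omega.TwoF.Tits
import Cfsg.Agent.KFacts.ON.Aut
import Cfsg.Agent.Mrg.Omega.TwoF.RowLU
import Cfsg.Agent.Mrg.Omega.CoTwoK.Normal
import Cfsg.Agent.KFacts.CoTwo.Main
import Mathlib.GroupTheory.GroupAction.Quotient
import Mathlib.GroupTheory.PGroup
import Mathlib.RingTheory.IntegralDomain
import Mathlib.Data.ZMod.Basic
import Mathlib.Algebra.BigOperators.Fin
import Mathlib.Tactic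
import Cfsg.Agent.Omega.TwoF.Defs
import Cfsg.Agent.Mrg.Omega.TwoF.Bridge
import Cfsg.Agent.MonsterU.CoFrameF
import Cfsg.Agent.ConwayFacts.AutCo1
import Cfsg.Agent.J4Type.FusionM22
import Cfsg.Agent.S0399
import Cfsg.Agent.Mrg.Omega.TwoF.RowPSp
import Cfsg.Agent.Mrg.Omega.TwoF.RowM11
import Cfsg.Agent.Omega.TwoF.RowM12
import Cfsg.Agent.Mrg.Omega.TwoF.RowJ1
import Cfsg.Agent.Mrg.Omega.TwoF.RowJ4
import Cfsg.Agent.Mrg.Omega.TwoF.RowLy
import Cfsg.Agent.Mrg.Omega.TwoF.RowFi
import Cfsg.Agent.Omega.TwoF.RowCo3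
import Cfsg.Agent.Mrg.Omega.TwoF.RowHN
import Cfsg.Agent.Mrg.Omega.TwoF.RowTh
import Cfsg.Agent.Omega.TwoF.RowHe
import Cfsg.Agent.Mrg.Omega.TwoF.RowSuz
import Cfsg.Agent.Mrg.Omega.TwoF.WeightCover
import Cfsg.Agent.Mrg.Omega.TwoF.RowMcL
import Cfsg.Agent.Mrg.Omega.TwoF.OrthTie
import Cfsg.Agent.Mrg.Omega.TwoF.RowTwE6
import Cfsg.Agent.Mrg.Omega.TwoF.RowB
import Cfsg.Agent.Mrg.Omega.TwoF.RowM
import Cfsg.Agent.Mrg.Omega.TwoF.GTwoOut
import Cfsg.Agent.Mrg.Omega.TwoF.RowRee
import Cfsg.Agent.Mrg.Omega.TwoF.RowTwD4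
import Cfsg.Agent.Mrg.Omega.TwoF.AltRk

-- merged: Cfsg.Agent.Omega.TwoF.RowJ2
section

/-!
# TABLE 2F, the row `J₂`: `RK K 4`

`A ≤ Aut(J₂)` elementary abelian fixes a conjugate of `t` (there are 315), acts on the five classes `{v i, t v i}` of
involutions of `Q = 2^{1+4}_-` as an elementary abelian subgroup of `S₅` (order at most 4), and the kernel consists of
conjugations by elements of some `⟨t, v i⟩`.
-/

set_option autoImplicit false

universe u

namespace Cfsg.Agent.Omega.TwoF.RowJ2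

open Subgroup Cfsg.Agent.J2Type.Model Cfsg.Agent.J2Type.SPFacts Cfsg.Agent.J2Type.CStruct
open Cfsg.Agent.J3Type.OneClass Cfsg.Agent.J2Type.Base Cfsg.Agent.KFacts.J2.Basic Cfsg.Agent.KFacts.J2.Aut

/-! ### Elementary abelian subgroups of `S₅` -/

set_option synthInstance.maxHeartbeats 1000000 in
set_option synthInstance.maxSize 2000 in
theorem five_aux : ∀ a : Equiv.Perm (Fin 5), a * a = 1 → a ≠ 1 → ∀ b : Equiv.Perm (Fin 5), b * b = 1 →
    a * b = b * a → b ≠ 1 → b ≠ a → ∀ c : Equiv.Perm (Fin 5), c * c = 1 → a * c = c * a → b * c = c * b →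
    c = 1 ∨ c = a ∨ c = b ∨ c = a * b := by
  decide +kernel

theorem card_five (B : Subgroup (Equiv.Perm (Fin 5))) (hB : ∀ a ∈ B, a * a = 1) : Nat.card B ≤ 4 := by
  classical
  have hc : ∀ a ∈ B, ∀ b ∈ B, a * b = b * a := by
    intro a ha b hb
    have h1 := inv_eq_of_mul_eq_one_left (hB _ (mul_mem ha hb))
    rw [_root_.mul_inv_rev, inv_eq_of_mul_eq_one_left (hB a ha), inv_eq_of_mul_eq_one_left (hB b hb)] at h1
    exact h1.symm
  by_cases h1 : ∃ a ∈ B, a ≠ 1
  · obtain ⟨a, ha, ha1⟩ := h1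
    by_cases h2 : ∃ b ∈ B, b ≠ 1 ∧ b ≠ a
    · obtain ⟨b, hb, hb1, hba⟩ := h2
      have h3 : (B : Set (Equiv.Perm (Fin 5))) ⊆ (({1, a, b, a * b} : Finset (Equiv.Perm (Fin 5))) : Set _) := by
        intro c hcB
        have := five_aux a (hB a ha) ha1 b (hB b hb) (hc a ha b hb) hb1 hba c (hB c hcB) (hc a ha c hcB)
          (hc b hb c hcB)
        simpa using this
      have h4 := Set.ncard_le_ncard h3 (Finset.finite_toSet _)
      rw [Set.ncard_coe_finset] at h4
      exact h4.trans Finset.card_le_four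
    · push Not at h2
      have h3 : (B : Set (Equiv.Perm (Fin 5))) ⊆ (({1, a} : Finset (Equiv.Perm (Fin 5))) : Set _) := by
        intro c hcB
        by_cases h : c = 1
        · simp [h]
        · simp [h2 c hcB h]
      have h4 := Set.ncard_le_ncard h3 (Finset.finite_toSet _)
      rw [Set.ncard_coe_finset] at h4
      exact h4.trans (Finset.card_le_two.trans (by norm_num))
  · push Not at h1
    have h3 : B = ⊥ := by
      rw [eq_bot_iff]
      intro c hcB
      exact mem_bot.2 (h1 c hcB)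
    rw [h3, Nat.card_unique]
    norm_num

variable {X : Type*} [Group X] {t u : X} {Q : Subgroup (centralizer ({t} : Set X))}
  {v : Fin 5 → centralizer ({t} : Set X)} {ρ : centralizer ({t} : Set X) →* SP}

/-- the centre is trivial -/
theorem center_eq (D : Dat t u Q v ρ) {c : X} (hc : ∀ x, c * x = x * c) : c = 1 := by
  have h1 : ρ ⟨c, mem_cent.2 (hc t)⟩ = 1 := by
    have h2 := act_inj D (act_conj D (hc t)) (α := MulAut.conj c) (τ := 1) (r := fun _ => 0) (by
      have h3 : MulAut.conj c = 1 := by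
        ext x
        show c * x * c⁻¹ = x
        rw [hc x, mul_inv_cancel_right]
      rw [h3]
      exact act_one v)
    exact SP.ext h2.1 h2.2
  rcases (D.M.ker _).1 h1 with h2 | h2
  · exact congrArg Subtype.val h2
  · exfalso
    have h3 : c = t := congrArg Subtype.val h2
    obtain ⟨n, hn, -⟩ := D.exists_n
    have h4 : n * t * n⁻¹ = t := by
      have h5 : n * t = t * n := by
        rw [← h3]
        exact (hc n).symm
      rw [h5, mul_inv_cancel_right]
    exact D.v_ne_t 0 (hn.symm.trans h4)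

/-- the square of an element of `Q` is `1` or `t` -/
theorem sq_Q (D : Dat t u Q v ρ) {k : centralizer ({t} : Set X)} (hk : k ∈ Q) : (k : X) * k = 1 ∨ (k : X) * k = t := by
  have hz : ∀ a : ZMod 2, ∀ y : centralizer ({t} : Set X), (zp (zc t) a * y) * (zp (zc t) a * y) = y * y := by
    intro a y
    rcases zmod2_cases a with h | h
    · rw [h, zp_zero, one_mul]
    · rw [h, zp_one]
      calc zc t * y * (zc t * y) = zc t * (y * zc t) * y := by group
        _ = (zc t * zc t) * (y * y) := by rw [D.M.z_comm y]; group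
        _ = y * y := by rw [D.M.z_sq, one_mul]
  rcases D.M.cover k hk with ⟨a, h⟩ | ⟨a, i, h⟩ | ⟨a, i, j, hij, h⟩
  · left
    have h1 := hz a 1
    rw [mul_one, mul_one, ← h] at h1
    exact congrArg Subtype.val h1
  · left
    have h1 := hz a (v i)
    rw [D.M.v_sq, ← h] at h1
    exact congrArg Subtype.val h1
  · right
    have h1 := hz a (v i * v j)
    have h2 : v i * v j * (v i * v j) = zc t := by
      calc v i * v j * (v i * v j) = v i * (v j * v i) * v j := by group
        _ = v i * (zc t * (v i * v j)) * v j := by rw [D.M.v_anti j i hij.ne']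
        _ = (v i * zc t) * v i * (v j * v j) := by group
        _ = zc t * (v i * v i) := by rw [D.M.z_comm, D.M.v_sq]; group
        _ = zc t := by rw [D.M.v_sq, mul_one]
    rw [h2, ← h] at h1
    exact congrArg Subtype.val h1

/-- the elements of `A` acting trivially on the classes -/
theorem ker_aux [Finite X] (D : Dat t u Q v ρ) {α : MulAut X} (hα : α t = t) (hαα : α * α = 1)
    {s : Fin 5 → ZMod 2} (h : Act α v 1 s) : α = 1 ∨ α = MulAut.conj t ∨ ∃ a i, α = MulAut.conj
      ((zp (zc t) a * v i : centralizer ({t} : Set X)) : X) := by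
  obtain ⟨k, rfl⟩ := D.inner_of_even α hα 1 s h (Equiv.Perm.sign_one)
  have hk : k * t = t * k := mul_inv_eq_iff_eq_mul.1 hα
  have h1 := act_inj D (act_conj D hk) h
  have h2 : (⟨k, mem_cent.2 hk⟩ : centralizer ({t} : Set X)) ∈ Q := (D.M.mem_Q _).2 h1.1
  have h3 : k * k = 1 := by
    apply center_eq D
    intro x
    have h4 : MulAut.conj (k * k) x = x := by rw [map_mul, hαα]; rfl
    exact mul_inv_eq_iff_eq_mul.1 h4
  by_cases hk1 : k = 1
  · left
    rw [hk1, map_one]
  · right
    rcases invol_Q D.M h2 (Subtype.ext h3) (fun h => hk1 (congrArg Subtype.val h)) with h4 | ⟨a, i, h4⟩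
    · left
      have : k = t := congrArg Subtype.val h4
      rw [this]
    · right
      exact ⟨a, i, by rw [← h4]⟩

/-- the action on the classes -/
theorem exists_hom [Finite X] (D : Dat t u Q v ρ) (A : Subgroup (MulAut X)) (hA : ∀ α ∈ A, α t = t) :
    ∃ f : A →* Equiv.Perm (Fin 5), ∀ α : A, ∃ s, Act (α : MulAut X) v (f α) s := by
  choose σ s hs using fun α : A => D.exists_act (α : MulAut X) (hA α α.2)
  refine ⟨MonoidHom.mk' σ fun α β => ?_, fun α => ⟨s α, hs α⟩⟩
  exact (act_inj D (hs (α * β)) (act_mul D (hA α α.2) (hs α) (hs β))).1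

theorem conj_inj (D : Dat t u Q v ρ) {x y : X} (h : MulAut.conj x = MulAut.conj y) : x = y := by
  have h1 : y⁻¹ * x = 1 := by
    apply center_eq D
    intro w
    have h2 : MulAut.conj (y⁻¹ * x) w = w := by
      rw [map_mul, h, ← map_mul, inv_mul_cancel, map_one]
      rfl
    exact mul_inv_eq_iff_eq_mul.1 h2
  exact (inv_mul_eq_one.1 h1).symm

theorem card_ker [Finite X] (D : Dat t u Q v ρ) (A : Subgroup (MulAut X)) (hA : ∀ α ∈ A, α t = t)
    (hA2 : ∀ α ∈ A, α * α = 1) (hA3 : ∀ α ∈ A, ∃ s, Act α v 1 s) : Nat.card A ≤ 4 := by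
  classical
  have key : ∀ α ∈ A, α = 1 ∨ α = MulAut.conj t ∨ ∃ a i, α = MulAut.conj
      ((zp (zc t) a * v i : centralizer ({t} : Set X)) : X) := by
    intro α hα
    obtain ⟨s, hs⟩ := hA3 α hα
    exact ker_aux D (hA α hα) (hA2 α hα) hs
  have hcov : ∃ i : Fin 5, ∀ α ∈ A, α = 1 ∨ α = MulAut.conj t ∨ ∃ a, α = MulAut.conj
      ((zp (zc t) a * v i : centralizer ({t} : Set X)) : X) := by
    by_cases h : ∃ α ∈ A, ∃ a i, α = MulAut.conj ((zp (zc t) a * v i : centralizer ({t} : Set X)) : X)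
    · obtain ⟨α, hα, a, i, rfl⟩ := h
      refine ⟨i, fun β hβ => ?_⟩
      rcases key β hβ with h1 | h1 | ⟨b, j, rfl⟩
      · exact Or.inl h1
      · exact Or.inr (Or.inl h1)
      · refine Or.inr (Or.inr ⟨b, ?_⟩)
        have h2 := hA2 _ hα
        have h3 := hA2 _ hβ
        have h4 := hA2 _ (mul_mem hα hβ)
        rw [← map_mul, ← map_mul, ← map_one MulAut.conj] at h4
        have h5 := conj_inj D h4
        rw [← map_mul, ← map_one MulAut.conj] at h2 h3
        have h6 := conj_inj D h2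
        have h7 := conj_inj D h3
        have h8 : ((zp (zc t) a * v i : centralizer ({t} : Set X)) : X) *
            ((zp (zc t) b * v j : centralizer ({t} : Set X)) : X) =
            ((zp (zc t) b * v j : centralizer ({t} : Set X)) : X) *
            ((zp (zc t) a * v i : centralizer ({t} : Set X)) : X) := by
          have h9 := inv_eq_of_mul_eq_one_left h5
          rw [_root_.mul_inv_rev, inv_eq_of_mul_eq_one_left h6, inv_eq_of_mul_eq_one_left h7] at h9
          exact h9.symm
        have h10 : i = j := (zv_comm_iff D.M a b i j).1 (Subtype.ext h8)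
        rw [h10]
    · refine ⟨0, fun β hβ => ?_⟩
      rcases key β hβ with h1 | h1 | ⟨b, j, h1⟩
      · exact Or.inl h1
      · exact Or.inr (Or.inl h1)
      · exact absurd ⟨β, hβ, b, j, h1⟩ h
  obtain ⟨i, hi⟩ := hcov
  have h3 : (A : Set (MulAut X)) ⊆ (({1, MulAut.conj t,
      MulAut.conj ((zp (zc t) 0 * v i : centralizer ({t} : Set X)) : X),
      MulAut.conj ((zp (zc t) 1 * v i : centralizer ({t} : Set X)) : X)} : Finset (MulAut X)) : Set _) := by
    intro α hα
    rcases hi α hα with h | h | ⟨a, h⟩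
    · simp [h]
    · simp [h]
    · rcases zmod2_cases a with h1 | h1
      · rw [h1] at h
        simp only [Finset.coe_insert, Finset.coe_singleton, Set.mem_insert_iff, Set.mem_singleton_iff]
        exact Or.inr (Or.inr (Or.inl h))
      · rw [h1] at h
        simp only [Finset.coe_insert, Finset.coe_singleton, Set.mem_insert_iff, Set.mem_singleton_iff]
        exact Or.inr (Or.inr (Or.inr h))
  have h4 := Set.ncard_le_ncard h3 (Finset.finite_toSet _)
  rw [Set.ncard_coe_finset] at h4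
  exact h4.trans Finset.card_le_four

/-- `A` fixing `t` -/
theorem card_of_fix [Finite X] (D : Dat t u Q v ρ) (A : Subgroup (MulAut X)) (hA : ∀ α ∈ A, α t = t)
    (hA2 : ∀ α ∈ A, α * α = 1) : Nat.card A ≤ 16 := by
  obtain ⟨f, hf⟩ := exists_hom D A hA
  have h1 : Nat.card f.range ≤ 4 := by
    apply card_five
    rintro _ ⟨α, rfl⟩
    rw [← map_mul]
    have : α * α = 1 := Subtype.ext (hA2 α α.2)
    rw [this, map_one]
  have h2 : Nat.card (f.ker.map A.subtype) ≤ 4 := by
    apply card_ker D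
    · rintro _ ⟨α, -, rfl⟩
      exact hA α α.2
    · rintro _ ⟨α, -, rfl⟩
      exact hA2 α α.2
    · rintro _ ⟨α, hα, rfl⟩
      obtain ⟨s, hs⟩ := hf α
      rw [MonoidHom.mem_ker.1 hα] at hs
      exact ⟨s, hs⟩
  have h3 : Nat.card (f.ker.map A.subtype) = Nat.card f.ker :=
    (Nat.card_congr (f.ker.equivMapOfInjective A.subtype A.subtype_injective).toEquiv).symm
  have h4 : Nat.card A = Nat.card f.range * Nat.card f.ker := by
    rw [← f.ker.index_mul_card, Subgroup.index_ker]
  rw [h4]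
  rw [h3] at h2
  exact Nat.mul_le_mul h1 h2

/-- an elementary abelian 2-group of automorphisms fixes a conjugate of `t` -/
theorem exists_fixed' [Finite X] (D : Dat t u Q v ρ) (A : Subgroup (MulAut X)) (hA2 : ∀ α ∈ A, α * α = 1) :
    ∃ g : X, ∀ α ∈ A, α (g * t * g⁻¹) = g * t * g⁻¹ := by
  have : Fact (Nat.Prime 2) := ⟨Nat.prime_two⟩
  have hcard : Nat.card {y : X // ∃ k : X, k * t * k⁻¹ = y} = 315 := by
    have h1 := card_conj t
    have h2 : Nat.card {k : X // k * t = t * k} = 1920 := by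
      rw [← D.cardC]
      exact Nat.card_congr (Equiv.subtypeEquivRight fun k => mem_cent.symm)
    rw [h2, D.card] at h1
    omega
  have hmap : ∀ (α : MulAut X) (y : X), (∃ k : X, k * t * k⁻¹ = y) → ∃ k : X, k * t * k⁻¹ = α y := by
    intro α y hy
    exact isConj_iff.1 ((D.isConj_aut α).trans (isConj_map α (isConj_iff.2 hy)))
  let act : MulAction A {y : X // ∃ k : X, k * t * k⁻¹ = y} :=
    { smul := fun α y => ⟨(α : MulAut X) y.1, hmap α y.1 y.2⟩
      one_smul := fun y => rfl
      mul_smul := fun α β y => rfl }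
  have hp : IsPGroup 2 A := fun α => ⟨1, by
    rw [pow_one, pow_two]
    exact Subtype.ext (hA2 α α.2)⟩
  obtain ⟨y, hy⟩ := hp.nonempty_fixed_point_of_prime_not_dvd_card {y : X // ∃ k : X, k * t * k⁻¹ = y} (by
    rw [hcard]; norm_num)
  obtain ⟨g, hg⟩ := y.2
  refine ⟨g, fun α hα => ?_⟩
  rw [hg]
  exact congrArg Subtype.val (hy ⟨α, hα⟩)

/-- **`m_2(Aut J₂) ≤ 4`** -/
theorem rk_of_dat [Finite X] (D : Dat t u Q v ρ) : RK X 4 := by
  intro A hA
  have hA2 : ∀ α ∈ A, α * α = 1 := fun α hα => by rw [← pow_two]; exact hA α hα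
  obtain ⟨g, hg⟩ := exists_fixed' D A hA2
  let c : MulAut (MulAut X) := MulAut.conj (MulAut.conj g⁻¹)
  have h1 : Nat.card (A.map c.toMonoidHom) ≤ 16 := by
    apply card_of_fix D
    · rintro _ ⟨α, hα, rfl⟩
      show (MulAut.conj g⁻¹ * α * (MulAut.conj g⁻¹)⁻¹) t = t
      rw [conj_conj, inv_inv, hg α hα]
      group
    · rintro _ ⟨α, hα, rfl⟩
      rw [← map_mul, hA2 α hα, map_one]
  rw [Nat.card_congr (A.equivMapOfInjective c.toMonoidHom c.injective).toEquiv]
  exact h1

theorem finite {K : Type*} [Group K] (h : Cfsg.Spor.IsoJ2 K) : Finite K := by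
  obtain ⟨e⟩ := h
  have h1 : Finite Cfsg.Spor.J2 := Nat.finite_of_card_ne_zero (by
    rw [Cfsg.Agent.S1619.result.2.2.2]; norm_num)
  exact Finite.of_equiv _ e.symm.toEquiv

/-- `m_2(Aut K) ≤ 4` for `K ≅ J₂`. -/
theorem rk {K : Type*} [Group K] (h : Cfsg.Spor.IsoJ2 K) : RK K 4 := by
  have := finite h
  obtain ⟨t, u, Q, v, ρ, D⟩ := Cfsg.Agent.KFacts.J2.Facts.exists_dat_of h
  exact rk_of_dat D

theorem center_eq_bot {K : Type*} [Group K] (h : Cfsg.Spor.IsoJ2 K) : center K = ⊥ := by
  have := finite h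
  obtain ⟨t, u, Q, v, ρ, D⟩ := Cfsg.Agent.KFacts.J2.Facts.exists_dat_of h
  rw [eq_bot_iff]
  intro c hc
  exact mem_bot.2 (center_eq D fun x => (mem_center_iff.1 hc x).symm)

theorem dead {K : Type*} [Group K] (h : Cfsg.Spor.IsoJ2 K) : Dead2.{u} K := Dead2.of_rk (rk h)

/-- **Row `J₂` of TABLE 2F.** -/
theorem row : KFacts.KillRow.{u} @Cfsg.Spor.IsoJ2 := by
  intro K _ h
  have := finite h
  obtain ⟨t, u, Q, v, ρ, D⟩ := Cfsg.Agent.KFacts.J2.Facts.exists_dat_of h
  exact (dead h).kill (center_eq_bot h) ⟨t, 1, D.t_ne⟩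

end Cfsg.Agent.Omega.TwoF.RowJ2

end

-- merged: Cfsg.Agent.Mrg.Omega.TwoF.RowONEnd
section

/-!
# TABLE 2F: the row O'N, closed (helper416; the automorphism group by helper60)
-/

set_option autoImplicit false

namespace Cfsg.Agent.Omega.TwoF.RowON

open Cfsg.Spor (ON IsoON)

universe u

/-- **Row O'N of TABLE 2F.** -/
theorem row : KFacts.KillRow.{u} @Cfsg.Spor.IsoON := by
  rintro K _ ⟨e⟩
  have hON := Cfsg.Agent.KFacts.ON.Cent.hON
  have := hON.1
  have := finite hON
  exact ((dead2 hON Cfsg.Agent.KFacts.ON.Aut.out).kill (center_eq hON) inferInstance).equiv e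

end Cfsg.Agent.Omega.TwoF.RowON

end

-- merged: Cfsg.Agent.Mrg.Omega.TwoF.RowCo2
section

/-!
# TABLE 2F: the row `Co2` (helper902)

`|V| ≥ 2 ^ 22` for self-dual modules (the prime 23, helper834), `m_2(Aut Co2) ≤ 10`.
-/

set_option autoImplicit false

namespace Cfsg.Agent.Omega.TwoF.RowCo2

open Subgroup Cfsg

universe u

theorem center_eq : center Spor.Co2 = ⊥ := by
  have := Cfsg.Agent.Schreier.CoTwoStab.isSimpleGroup
  rcases (inferInstance : (center Spor.Co2).Normal).eq_bot_or_eq_top with h1 | h1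
  · exact h1
  · exfalso
    apply Cfsg.Agent.Schreier.CoTwoStab.not_comm
    refine ⟨⟨fun x y => ?_⟩⟩
    have h2 : y ∈ center Spor.Co2 := by rw [h1]; exact mem_top y
    exact mem_center_iff.1 h2 x

/-- **`m_2(Aut Co2) ≤ 10`** -/
theorem rk : RK Spor.Co2 10 := by
  have := Cfsg.Agent.Schreier.CoTwoStab.finite
  intro A hA
  have hinj : Function.Injective (MulAut.conj : Spor.Co2 →* MulAut Spor.Co2) := by
    rw [injective_iff_map_eq_one]
    intro g hg
    rw [← mem_bot, ← center_eq, mem_center_iff]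
    intro x
    have h2 := DFunLike.congr_fun hg x
    simp only [MulAut.conj_apply, MulAut.one_apply] at h2
    exact (mul_inv_eq_iff_eq_mul.1 h2).symm
  have h1 : (A.comap (MulAut.conj : Spor.Co2 →* MulAut Spor.Co2)).map MulAut.conj = A := by
    rw [Subgroup.map_comap_eq, Cfsg.Agent.KFacts.CoTwo.Main.range_conj, top_inf_eq]
  rw [← h1, Nat.card_congr (Subgroup.equivMapOfInjective _ _ hinj).toEquiv.symm]
  apply Cfsg.Agent.Omega.CoTwoK.RankCo2.card_le
  intro a ha
  apply hinj
  rw [map_mul, map_one, ← pow_two]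
  exact hA _ ha

/-- **the field `co2` of `KFacts.Rows2`** -/
theorem co2 (K : Type u) [Group K] (h : Spor.IsoCo2 K) : KFacts.Tight.{u} K 22 10 := by
  obtain ⟨e⟩ := h
  have := Cfsg.Agent.Schreier.CoTwoStab.isSimpleGroup
  refine ⟨Or.inr (LBs.equiv e (LBs.of_23 ?_)), RK.equiv e rk, rfl⟩
  rw [Cfsg.Agent.Schreier.CoTwoStab.card]
  norm_num

theorem row (K : Type u) [Group K] (h : Spor.IsoCo2 K) : KFacts.Tight.{u} K 22 10 := co2 K h

end Cfsg.Agent.Omega.TwoF.RowCo2

end

-- merged: Cfsg.Agent.Omega.TwoF.CoRank.Claim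
section

/-!
# Elementary abelian 2-groups in `2^12 : M24`, the counting part (row Co1, helper897)

`B` a finite group of exponent 2 acting on a set of 24 points such that every element `≠ 1` fixes no point or exactly
eight points, `D` a binary code of minimum weight `≥ 8` such that every `b ∈ B` maps every word of `D` to itself or to its
complement: `|D| |B| ≤ 2 ^ 12` (`card_mul_card_le`).
-/

set_option autoImplicit false

namespace Cfsg.Agent.Omega.TwoF.CoRank.Claim

open MulAction Finset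

/-- few coordinates of small total weight -/
theorem exists_small {O : Type*} [Fintype O] [DecidableEq O] (s : O → ℕ) (hs : ∑ x, s x = 24) {m : ℕ}
    (hm : 3 * m < Fintype.card O) : ∃ M : Finset O, M.card = m ∧ ∑ x ∈ M, s x < 8 := by
  obtain ⟨M, hM, hmin⟩ := Finset.exists_min_image (Finset.univ.powersetCard m : Finset (Finset O)) (fun M => ∑ x ∈ M, s x)
    (by rw [Finset.powersetCard_nonempty, Finset.card_univ]; omega)
  rw [Finset.mem_powersetCard_univ] at hM
  refine ⟨M, hM, ?_⟩
  by_contra h8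
  rw [not_lt] at h8
  have hle : ∀ y, y ∉ M → ∀ x ∈ M, s x ≤ s y := by
    intro y hy x hx
    have hy' : y ∉ M.erase x := fun h => hy (Finset.mem_of_mem_erase h)
    have h1 := hmin (insert y (M.erase x)) (by
      rw [Finset.mem_powersetCard_univ, Finset.card_insert_of_notMem hy', Finset.card_erase_of_mem hx, hM]
      have : 0 < M.card := Finset.card_pos.2 ⟨x, hx⟩
      omega)
    rw [Finset.sum_insert hy'] at h1
    have h2 := Finset.add_sum_erase M s hx
    omega
  have h1 : ∀ y, y ∉ M → 8 ≤ m * s y := by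
    intro y hy
    calc 8 ≤ ∑ x ∈ M, s x := h8
      _ ≤ ∑ _x ∈ M, s y := Finset.sum_le_sum fun x hx => hle y hy x hx
      _ = m * s y := by rw [Finset.sum_const, hM, smul_eq_mul]
  have h2 : 8 * (Fintype.card O - m) ≤ m * ∑ y ∈ univ \ M, s y := by
    rw [Finset.mul_sum]
    calc 8 * (Fintype.card O - m) = ∑ _y ∈ univ \ M, 8 := by
          rw [Finset.sum_const, Finset.card_univ_sdiff, hM, smul_eq_mul, mul_comm]
      _ ≤ _ := Finset.sum_le_sum fun y hy => h1 y (Finset.mem_sdiff.1 hy).2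
  have h3 : ∑ y ∈ univ \ M, s y + ∑ x ∈ M, s x = 24 := by
    rw [← hs]
    exact Finset.sum_sdiff (Finset.subset_univ M)
  have h4 : m * 8 ≤ m * ∑ x ∈ M, s x := Nat.mul_le_mul_left _ h8
  have h5 : m * ∑ y ∈ univ \ M, s y + m * ∑ x ∈ M, s x = m * 24 := by rw [← Nat.mul_add, h3]
  have h6 : m ≤ Fintype.card O := by omega
  omega

variable {Ω B : Type*} [Fintype Ω] [Group B] [MulAction B Ω]

/-- Singleton bound for a code invariant under `B` -/
theorem card_inv_le [Finite B] (hΩ : Fintype.card Ω = 24) (D : AddSubgroup (Ω → ZMod 2))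
    (hinv : ∀ c ∈ D, ∀ (b : B) (i : Ω), c (b • i) = c i)
    (hmin : ∀ c ∈ D, c ≠ 0 → 8 ≤ (Finset.univ.filter fun i => c i ≠ 0).card) :
    Nat.card D ≤ 2 ^ (Nat.card (orbitRel.Quotient B Ω) - (Nat.card (orbitRel.Quotient B Ω) - 1) / 3) := by
  classical
  let O := orbitRel.Quotient B Ω
  have : Finite O := Quotient.finite _
  have := Fintype.ofFinite O
  let π : Ω → O := fun i => Quotient.mk _ i
  have hc : Nat.card (orbitRel.Quotient B Ω) = Fintype.card O := Nat.card_eq_fintype_card
  rw [hc]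
  set o := Fintype.card O with ho
  have hpos : 0 < o := by
    rw [ho, Fintype.card_pos_iff]
    have : Nonempty Ω := Fintype.card_pos_iff.1 (by rw [hΩ]; norm_num)
    exact ⟨π (Classical.arbitrary Ω)⟩
  obtain ⟨M, hM, hlt⟩ := exists_small (O := O) (fun x => (Finset.univ.filter fun i => π i = x).card) (by
    rw [← Finset.card_eq_sum_card_fiberwise (fun i _ => Finset.mem_coe.2 (Finset.mem_univ (π i))), Finset.card_univ, hΩ])
    (m := (o - 1) / 3) (by omega)
  -- restrict to the orbits outside `M`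
  let f : D → ({x : O // x ∉ M} → ZMod 2) := fun c x => (c : Ω → ZMod 2) (Quotient.out x.1)
  have hf : Function.Injective f := by
    intro c d hcd
    by_contra hne
    have hne' : (c : Ω → ZMod 2) - d ≠ 0 := fun h => hne (Subtype.ext (sub_eq_zero.1 h))
    have h1 := hmin _ (D.sub_mem c.2 d.2) hne'
    have h2 : (Finset.univ.filter fun i => ((c : Ω → ZMod 2) - d) i ≠ 0) ⊆ Finset.univ.filter fun i => π i ∈ M := by
      intro i hi
      rw [Finset.mem_filter] at hi ⊢
      refine ⟨Finset.mem_univ _, ?_⟩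
      by_contra hiM
      apply hi.2
      have h3 := congrFun hcd ⟨π i, hiM⟩
      have h4 : (orbitRel B Ω).r (Quotient.out (π i)) i := Quotient.mk_out (s := orbitRel B Ω) i
      obtain ⟨b, hb⟩ := h4
      have h5 : ∀ e ∈ D, e (Quotient.out (π i)) = e i := by
        intro e he
        rw [← hb]
        exact hinv e he b i
      have h3' : (c : Ω → ZMod 2) (Quotient.out (π i)) = (d : Ω → ZMod 2) (Quotient.out (π i)) := h3
      rw [h5 _ c.2, h5 _ d.2] at h3'
      rw [Pi.sub_apply, h3', sub_self]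
    have h3 : (Finset.univ.filter fun i => π i ∈ M).card = ∑ x ∈ M, (Finset.univ.filter fun i => π i = x).card := by
      rw [Finset.card_eq_sum_card_fiberwise (f := π) (t := M) (fun i hi => by
        have := (Finset.mem_filter.1 (Finset.mem_coe.1 hi)).2
        exact Finset.mem_coe.2 this)]
      refine Finset.sum_congr rfl fun x hx => ?_
      congr 1
      ext i
      simp only [Finset.mem_filter, Finset.mem_univ, true_and]
      constructor
      · rintro ⟨_, h⟩; exact h
      · intro h; exact ⟨by rw [h]; exact hx, h⟩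
    have h4 := Finset.card_le_card h2
    omega
  calc Nat.card D ≤ Nat.card ({x : O // x ∉ M} → ZMod 2) := Nat.card_le_card_of_injective f hf
    _ = 2 ^ (o - (o - 1) / 3) := by
      rw [Nat.card_fun, Nat.card_zmod]
      congr 1
      rw [Nat.card_eq_fintype_card, Fintype.card_subtype_compl]
      simp [hM, ho]

/-- the sign of an element of `ZMod 2` -/
def sg (a : ZMod 2) : ℤ := if a = 0 then 1 else -1

theorem sg_add : ∀ a b : ZMod 2, sg (a + b) = sg a * sg b := by decide

theorem sg_eq_one : ∀ a : ZMod 2, sg a = 1 → a = 0 := by decide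

theorem add_self (a : ZMod 2) : a + a = 0 := CharTwo.add_self_eq_zero a

omit [Fintype Ω] in
/-- the pairing of `D` and `B` -/
theorem duality [Finite Ω] [Finite B] [Nonempty Ω] (D : AddSubgroup (Ω → ZMod 2))
    (hpm : ∀ c ∈ D, ∀ b : B, (∀ i, c (b • i) = c i) ∨ (∀ i, c (b • i) = c i + 1)) :
    Nat.card D * Nat.card {b : B // ∀ c ∈ D, ∀ i, c (b • i) = c i} =
      Nat.card {c : D // ∀ (b : B) i, (c : Ω → ZMod 2) (b • i) = (c : Ω → ZMod 2) i} * Nat.card B := by
  classical
  have := Fintype.ofFinite B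
  have := Fintype.ofFinite D
  let i₀ : Ω := Classical.arbitrary Ω
  let p : (Ω → ZMod 2) → B → ZMod 2 := fun c b => c (b • i₀) + c i₀
  have hp : ∀ c ∈ D, ∀ b i, c (b • i) = c i + p c b := by
    intro c hc b i
    rcases hpm c hc b with h | h
    · show c (b • i) = c i + (c (b • i₀) + c i₀)
      rw [h, h, add_self, add_zero]
    · show c (b • i) = c i + (c (b • i₀) + c i₀)
      rw [h, h, add_comm (c i₀) 1, add_assoc, add_self, add_zero]
  have hpz : ∀ c ∈ D, ∀ b, p c b = 0 ↔ ∀ i, c (b • i) = c i := by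
    intro c hc b
    constructor
    · intro h i
      rw [hp c hc b i, h, add_zero]
    · intro h
      show c (b • i₀) + c i₀ = 0
      rw [h, add_self]
  -- characters
  let ψ : D → (B →* ℤ) := fun c =>
    { toFun := fun b => sg (p c b)
      map_one' := by
        show sg ((c : Ω → ZMod 2) ((1 : B) • i₀) + (c : Ω → ZMod 2) i₀) = 1
        rw [one_smul, add_self]; rfl
      map_mul' := fun b b' => by
        rw [← sg_add]
        congr 1
        show (c : Ω → ZMod 2) ((b * b') • i₀) + (c : Ω → ZMod 2) i₀ =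
          ((c : Ω → ZMod 2) (b • i₀) + (c : Ω → ZMod 2) i₀) + ((c : Ω → ZMod 2) (b' • i₀) + (c : Ω → ZMod 2) i₀)
        rw [mul_smul, hp c c.2 b (b' • i₀)]
        show (c : Ω → ZMod 2) (b' • i₀) + ((c : Ω → ZMod 2) (b • i₀) + (c : Ω → ZMod 2) i₀) + (c : Ω → ZMod 2) i₀ = _
        ring }
  let φ : B → (Multiplicative D →* ℤ) := fun b =>
    { toFun := fun c => sg (p (Multiplicative.toAdd c : D) b)
      map_one' := by
        show sg ((0 : Ω → ZMod 2) (b • i₀) + (0 : Ω → ZMod 2) i₀) = 1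
        rfl
      map_mul' := fun c c' => by
        rw [← sg_add]
        congr 1
        show ((Multiplicative.toAdd c : D) : Ω → ZMod 2) (b • i₀) + ((Multiplicative.toAdd c' : D) : Ω → ZMod 2) (b • i₀) +
          (((Multiplicative.toAdd c : D) : Ω → ZMod 2) i₀ + ((Multiplicative.toAdd c' : D) : Ω → ZMod 2) i₀) = _
        show _ = (((Multiplicative.toAdd c : D) : Ω → ZMod 2) (b • i₀) + ((Multiplicative.toAdd c : D) : Ω → ZMod 2) i₀) +
          (((Multiplicative.toAdd c' : D) : Ω → ZMod 2) (b • i₀) + ((Multiplicative.toAdd c' : D) : Ω → ZMod 2) i₀)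
        ring }
  have hψ1 : ∀ c : D, ψ c = 1 ↔ ∀ (b : B) i, (c : Ω → ZMod 2) (b • i) = (c : Ω → ZMod 2) i := by
    intro c
    constructor
    · intro h b
      rw [← hpz c c.2 b]
      exact sg_eq_one _ (DFunLike.congr_fun h b)
    · intro h
      ext b
      show sg (p c b) = 1
      rw [(hpz c c.2 b).2 (h b)]; rfl
  have hφ1 : ∀ b : B, φ b = 1 ↔ ∀ c ∈ D, ∀ i, c (b • i) = c i := by
    intro b
    constructor
    · intro h c hc
      rw [← hpz c hc b]
      exact sg_eq_one _ (DFunLike.congr_fun h (Multiplicative.ofAdd (⟨c, hc⟩ : D)))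
    · intro h
      ext c
      show sg (p (Multiplicative.toAdd c : D) b) = 1
      rw [(hpz _ (Multiplicative.toAdd c : D).2 b).2 (h _ (Multiplicative.toAdd c : D).2)]; rfl
  have h1 : ∑ c : D, ∑ b : B, sg (p c b) =
      (Nat.card {c : D // ∀ (b : B) i, (c : Ω → ZMod 2) (b • i) = (c : Ω → ZMod 2) i} : ℤ) * Nat.card B := by
    have h2 : ∀ c : D, ∑ b : B, sg (p c b) =
        if (∀ (b : B) i, (c : Ω → ZMod 2) (b • i) = (c : Ω → ZMod 2) i) then (Nat.card B : ℤ) else 0 := fun c => by
      have h5 : ∑ b : B, sg (p c b) = ((if ψ c = 1 then Fintype.card B else 0 : ℕ) : ℤ) := sum_hom_units (ψ c)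
      rw [h5, Nat.card_eq_fintype_card]
      simp only [hψ1 c]
      split_ifs <;> simp
    rw [Finset.sum_congr rfl fun c _ => h2 c, ← Finset.sum_filter, Finset.sum_const, nsmul_eq_mul,
      Nat.card_eq_fintype_card (α := {c : D // ∀ (b : B) i, (c : Ω → ZMod 2) (b • i) = (c : Ω → ZMod 2) i}),
      Fintype.card_subtype]
  have h3 : ∑ b : B, ∑ c : D, sg (p c b) =
      (Nat.card {b : B // ∀ c ∈ D, ∀ i, c (b • i) = c i} : ℤ) * Nat.card D := by
    have h2 : ∀ b : B, ∑ c : D, sg (p c b) =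
        if (∀ c ∈ D, ∀ i, c (b • i) = c i) then (Nat.card D : ℤ) else 0 := fun b => by
      have h6 : Fintype (Multiplicative D) := Multiplicative.fintype
      have h5 : ∑ c : Multiplicative D, φ b c = ((if φ b = 1 then Fintype.card (Multiplicative D) else 0 : ℕ) : ℤ) :=
        sum_hom_units (φ b)
      have h7 : ∑ c : D, sg (p c b) = ∑ c : Multiplicative D, φ b c :=
        Fintype.sum_equiv Multiplicative.ofAdd _ _ fun c => rfl
      have h8 : (Fintype.card (Multiplicative D) : ℤ) = Nat.card D := by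
        rw [← Nat.card_eq_fintype_card]; rfl
      rw [h7, h5]
      simp only [hφ1 b]
      split_ifs
      · exact h8
      · simp
    rw [Finset.sum_congr rfl fun b _ => h2 b, ← Finset.sum_filter, Finset.sum_const, nsmul_eq_mul,
      Nat.card_eq_fintype_card (α := {b : B // ∀ c ∈ D, ∀ i, c (b • i) = c i}), Fintype.card_subtype]
  rw [Finset.sum_comm, h3] at h1
  have h4 : Nat.card {b : B // ∀ c ∈ D, ∀ i, c (b • i) = c i} * Nat.card D =
      Nat.card {c : D // ∀ (b : B) i, (c : Ω → ZMod 2) (b • i) = (c : Ω → ZMod 2) i} * Nat.card B := by exact_mod_cast h1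
  rw [← h4, mul_comm]

/-- the double count of fixed points -/
theorem burnside [Finite B] [DecidableEq Ω] [Fintype B] :
    ∑ b : B, (Finset.univ.filter fun i : Ω => b • i = i).card = Nat.card (orbitRel.Quotient B Ω) * Nat.card B := by
  classical
  have : Finite (orbitRel.Quotient B Ω) := Quotient.finite _
  have := Fintype.ofFinite (orbitRel.Quotient B Ω)
  have h := MulAction.sum_card_fixedBy_eq_card_orbits_mul_card_group B Ω
  rw [Nat.card_eq_fintype_card, Nat.card_eq_fintype_card, ← h]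
  refine Finset.sum_congr rfl fun b _ => ?_
  rw [← Fintype.card_subtype]
  rfl

theorem card_stab_le [Finite B] [DecidableEq Ω] (hΩ : Fintype.card Ω = 24)
    (hfix : ∀ b : B, b ≠ 1 → ∀ i : Ω, b • i = i → (Finset.univ.filter fun j : Ω => b • j = j).card = 8) (i : Ω) :
    Nat.card (stabilizer B i) ≤ 16 := by
  classical
  have := Fintype.ofFinite (stabilizer B i)
  have h := burnside (Ω := Ω) (B := stabilizer B i)
  rw [← Finset.add_sum_erase univ _ (Finset.mem_univ (1 : stabilizer B i))] at h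
  have h1 : (Finset.univ.filter fun j : Ω => (1 : stabilizer B i) • j = j).card = 24 := by
    rw [Finset.filter_true_of_mem (fun j _ => one_smul _ j), Finset.card_univ, hΩ]
  have h2 : ∑ b ∈ Finset.univ.erase (1 : stabilizer B i), (Finset.univ.filter fun j : Ω => b • j = j).card =
      8 * (Nat.card (stabilizer B i) - 1) := by
    rw [Finset.sum_congr rfl (g := fun _ => 8), Finset.sum_const, Finset.card_erase_of_mem (Finset.mem_univ _),
      Finset.card_univ, smul_eq_mul, mul_comm, Nat.card_eq_fintype_card]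
    intro b hb
    have hb1 : (b : B) ≠ 1 := fun h => (Finset.mem_erase.1 hb).1 (Subtype.ext h)
    exact hfix b hb1 i b.2
  rw [h1, h2] at h
  have hn : 0 < Nat.card (stabilizer B i) := Nat.card_pos
  set n := Nat.card (stabilizer B i) with hn'
  have h3 : 16 + 8 * n = Nat.card (orbitRel.Quotient (stabilizer B i) Ω) * n := by omega
  have h4 : n ∣ 16 := by
    have h5 : n ∣ 16 + 8 * n := ⟨_, by rw [h3, mul_comm]⟩
    exact (Nat.dvd_add_left (Dvd.intro_left 8 rfl)).1 h5
  exact Nat.le_of_dvd (by norm_num) h4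

/-- **main estimate** -/
theorem card_mul_card_le [Finite B] [DecidableEq Ω] (hΩ : Fintype.card Ω = 24) (h2 : ∀ b : B, b * b = 1)
    (hfix : ∀ b : B, b ≠ 1 → ∀ i : Ω, b • i = i → (Finset.univ.filter fun j : Ω => b • j = j).card = 8)
    (D : AddSubgroup (Ω → ZMod 2))
    (hmin : ∀ c ∈ D, c ≠ 0 → 8 ≤ (Finset.univ.filter fun i => c i ≠ 0).card)
    (hpm : ∀ c ∈ D, ∀ b : B, (∀ i, c (b • i) = c i) ∨ (∀ i, c (b • i) = c i + 1))
    (hD : Nat.card D ≤ 2 ^ 12) : Nat.card D * Nat.card B ≤ 2 ^ 12 := by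
  classical
  by_cases hB1 : Nat.card B = 1
  · rw [hB1, mul_one]; exact hD
  have := Fintype.ofFinite B
  have : Nonempty Ω := Fintype.card_pos_iff.1 (by rw [hΩ]; norm_num)
  have hfact : Fact (Nat.Prime 2) := ⟨Nat.prime_two⟩
  have hP : IsPGroup 2 B := fun b => ⟨1, by rw [pow_one, pow_two]; exact h2 b⟩
  let Bs : Subgroup B :=
    { carrier := {b | ∀ c ∈ D, ∀ i, c (b • i) = c i}
      one_mem' := fun c _ i => by rw [one_smul]
      mul_mem' := fun {a b} ha hb c hc i => by rw [mul_smul, ha c hc, hb c hc]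
      inv_mem' := fun {a} ha c hc i => by rw [← ha c hc (a⁻¹ • i), smul_inv_smul] }
  let D0 : AddSubgroup (Ω → ZMod 2) :=
    { carrier := {c | c ∈ D ∧ ∀ (b : B) i, c (b • i) = c i}
      zero_mem' := ⟨D.zero_mem, fun _ _ => rfl⟩
      add_mem' := fun {x y} hx hy => ⟨D.add_mem hx.1 hy.1, fun b i => by
        rw [Pi.add_apply, Pi.add_apply, hx.2, hy.2]⟩
      neg_mem' := fun {x} hx => ⟨D.neg_mem hx.1, fun b i => by rw [Pi.neg_apply, Pi.neg_apply, hx.2]⟩ }
  have hdual : Nat.card D * Nat.card Bs = Nat.card D0 * Nat.card B := by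
    have h := duality (B := B) D hpm
    have h3 : Nat.card D0 = Nat.card {c : D // ∀ (b : B) i, (c : Ω → ZMod 2) (b • i) = (c : Ω → ZMod 2) i} :=
      Nat.card_congr
        { toFun := fun c => ⟨⟨c.1, c.2.1⟩, c.2.2⟩
          invFun := fun c => ⟨c.1.1, c.1.2, c.2⟩
          left_inv := fun _ => rfl
          right_inv := fun _ => rfl }
    rw [h3, ← h]
    rfl
  obtain ⟨b, hb⟩ := IsPGroup.iff_card.1 hP
  obtain ⟨t, ht⟩ := IsPGroup.iff_card.1 (hP.to_subgroup Bs)
  have hD0 := card_inv_le (B := B) hΩ D0 (fun c hc => hc.2) (fun c hc => hmin c hc.1)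
  set o := Nat.card (orbitRel.Quotient B Ω) with ho
  have hbur := burnside (Ω := Ω) (B := B)
  rw [← ho] at hbur
  have ho1 : 1 ≤ o := by
    have : Finite (orbitRel.Quotient B Ω) := Quotient.finite _
    have : Nonempty (orbitRel.Quotient B Ω) := ⟨Quotient.mk _ (Classical.arbitrary Ω)⟩
    exact Nat.card_pos
  have hbd1 : o * Nat.card B ≤ 384 := by
    rw [← hbur]
    have h3 : ∑ b : B, (Finset.univ.filter fun i : Ω => b • i = i).card = ∑ i : Ω, Nat.card (stabilizer B i) := by
      simp only [Finset.card_filter]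
      rw [Finset.sum_comm]
      refine Finset.sum_congr rfl fun i _ => ?_
      rw [← Finset.card_filter, Nat.card_eq_fintype_card, ← Fintype.card_subtype]
      rfl
    rw [h3]
    calc ∑ i : Ω, Nat.card (stabilizer B i) ≤ ∑ _i : Ω, 16 := Finset.sum_le_sum fun i _ => card_stab_le hΩ hfix i
      _ = 384 := by rw [Finset.sum_const, Finset.card_univ, hΩ, smul_eq_mul]
  have hbd2 : o * Nat.card B ≤ 16 + 8 * Nat.card Bs := by
    rw [← hbur, ← Finset.add_sum_erase univ _ (Finset.mem_univ (1 : B))]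
    have h1 : (Finset.univ.filter fun j : Ω => (1 : B) • j = j).card = 24 := by
      rw [Finset.filter_true_of_mem (fun j _ => one_smul _ j), Finset.card_univ, hΩ]
    rw [h1]
    have h3 : ∑ b ∈ Finset.univ.erase (1 : B), (Finset.univ.filter fun j : Ω => b • j = j).card ≤
        ∑ b ∈ Finset.univ.erase (1 : B), if b ∈ Bs then 8 else 0 := by
      refine Finset.sum_le_sum fun b hb => ?_
      have hb1 := (Finset.mem_erase.1 hb).1
      split_ifs with hbs
      · by_cases hex : ∃ i : Ω, b • i = i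
        · obtain ⟨i, hi⟩ := hex
          exact (hfix b hb1 i hi).le
        · push Not at hex
          rw [Finset.filter_false_of_mem (fun i _ => hex i)]
          simp
      · rw [Nat.le_zero, Finset.card_eq_zero, Finset.filter_eq_empty_iff]
        intro i _ hi
        apply hbs
        intro c hc
        rcases hpm c hc b with h | h
        · exact h
        · exfalso
          have h4 := h i
          rw [hi] at h4
          have h5 : (1 : ZMod 2) = 0 := left_eq_add.1 h4
          exact one_ne_zero h5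
    rw [← Finset.sum_filter, Finset.sum_const, smul_eq_mul] at h3
    have h4 : (Finset.filter (fun b => b ∈ Bs) (Finset.univ.erase (1 : B))).card + 1 = Nat.card Bs := by
      rw [Nat.card_eq_fintype_card, Fintype.card_subtype, Finset.filter_erase, Finset.card_erase_of_mem (by
        rw [Finset.mem_filter]; exact ⟨Finset.mem_univ _, Bs.one_mem⟩)]
      have : 0 < (Finset.filter (fun b => b ∈ Bs) (Finset.univ : Finset B)).card :=
        Finset.card_pos.2 ⟨1, by rw [Finset.mem_filter]; exact ⟨Finset.mem_univ _, Bs.one_mem⟩⟩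
      omega
    omega
  rw [hb] at hbd1 hbd2 hdual hB1 ⊢
  rw [ht] at hbd2 hdual
  have htb : t ≤ b := by
    have h3 := Subgroup.card_subgroup_dvd_card Bs
    rw [hb, ht] at h3
    exact (Nat.pow_dvd_pow_iff_le_right (by norm_num)).1 h3
  have hb0 : b ≠ 0 := by
    rintro rfl
    exact hB1 rfl
  have key : o - (o - 1) / 3 + b + b ≤ 12 + t := by
    have hb8 : b ≤ 8 := by
      by_contra hcon
      have h3 : 2 ^ 9 ≤ 2 ^ b := Nat.pow_le_pow_right (by norm_num) (by omega)
      have h4 : 1 * 2 ^ 9 ≤ o * 2 ^ b := Nat.mul_le_mul ho1 h3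
      omega
    clear_value o
    clear hbur hdual hD0 ht hb ho
    interval_cases b <;> first | omega | (interval_cases t <;> omega)
  have h5 : Nat.card D * 2 ^ b * 2 ^ t ≤ 2 ^ 12 * 2 ^ t := by
    calc Nat.card D * 2 ^ b * 2 ^ t = Nat.card D0 * 2 ^ b * 2 ^ b := by rw [← hdual]; ring
      _ ≤ 2 ^ (o - (o - 1) / 3) * 2 ^ b * 2 ^ b := Nat.mul_le_mul_right _ (Nat.mul_le_mul_right _ hD0)
      _ = 2 ^ (o - (o - 1) / 3 + b + b) := by rw [pow_add, pow_add]
      _ ≤ 2 ^ (12 + t) := Nat.pow_le_pow_right (by norm_num) key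
      _ = 2 ^ 12 * 2 ^ t := by rw [pow_add]
  exact Nat.le_of_mul_le_mul_right h5 (by positivity)

end Cfsg.Agent.Omega.TwoF.CoRank.Claim

end

-- merged: Cfsg.Agent.Mrg.Omega.TwoF.CoRank.Main
section

/-!
# Row Co1 of TABLE 2F: `m_2(Aut Co1) ≤ 11` (helper897)

* `card_le` : an elementary abelian 2-subgroup of `Co1` has order at most `2 ^ 11`;
* `rk` : `RK Co1 11`.
-/

set_option autoImplicit false

namespace Cfsg.Agent.Omega.TwoF.CoRank.Main

open Cfsg
open Cfsg.Agent.SporadicA.Co0Mono hiding smul_add smul_sub smul_neg smul_zero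
open Cfsg.Agent.SporadicA.Co1Simple
open Cfsg.Agent.MonsterU.CoFrameF
open Cfsg.Agent.CoOneType.CoOneE (pr E mem_E)
open Cfsg.Agent.SporadicA.GolayBase
open Cfsg.Spor (Co1)
open Cfsg.Agent.Omega.TwoF

/-- a 2-subgroup is conjugate into a subgroup of odd index -/
theorem exists_conj_le {G : Type*} [Group G] [Finite G] {A H : Subgroup G} (hA : IsPGroup 2 A) (hH : Odd H.index) :
    ∃ g : G, ∀ a ∈ A, g⁻¹ * a * g ∈ H := by
  have : Fact (Nat.Prime 2) := ⟨Nat.prime_two⟩
  have : Finite (G ⧸ H) := Quotient.finite _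
  obtain ⟨x, hx⟩ := hA.nonempty_fixed_point_of_prime_not_dvd_card (α := G ⧸ H) (by
    have : Nat.card (G ⧸ H) = H.index := rfl
    rw [this, ← even_iff_two_dvd, Nat.not_even_iff_odd]; exact hH)
  obtain ⟨g, rfl⟩ := QuotientGroup.mk_surjective x
  refine ⟨g, fun a ha => ?_⟩
  have h1 : ((a * g : G) : G ⧸ H) = (g : G ⧸ H) := hx ⟨a, ha⟩
  have h2 := QuotientGroup.eq.1 h1.symm
  rwa [← mul_assoc] at h2

instance finite_Co1 : Finite Co1 := Nat.finite_of_card_ne_zero (by rw [card_Co1]; norm_num)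

theorem weight {c : golayCode} (hc : c ≠ 0) : 8 ≤ (Finset.univ.filter fun i => (c : GolayPt → ZMod 2) i ≠ 0).card := by
  have h1 : (Finset.univ.filter fun i => (c : GolayPt → ZMod 2) i ≠ 0) ∈ supports (golayCode : Set (GolayPt → ZMod 2)) := by
    refine ⟨c, c.2, ?_⟩
    rfl
  have h0 : (Finset.univ.filter fun i => (c : GolayPt → ZMod 2) i ≠ 0).card ≠ 0 := by
    intro h
    apply hc
    apply Subtype.ext
    funext i
    by_contra h2
    rw [Finset.card_eq_zero] at h
    have h3 : i ∈ (Finset.univ.filter fun i => (c : GolayPt → ZMod 2) i ≠ 0) := by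
      rw [Finset.mem_filter]; exact ⟨Finset.mem_univ _, h2⟩
    rw [h] at h3
    exact absurd h3 (Finset.notMem_empty _)
  rcases card_of_mem_supports h1 with h | h | h | h | h <;> omega

/-- the bound for subgroups of the frame group -/
theorem card_le_of_le {A : Subgroup Co1} (hA : ∀ a ∈ A, a * a = 1) (hAF : A ≤ F) : Nat.card A ≤ 2 ^ 11 := by
  classical
  have hcomm : ∀ a ∈ A, ∀ b ∈ A, a * b = b * a := by
    intro a ha b hb
    have h1 : ∀ x ∈ A, x⁻¹ = x := fun x hx => inv_eq_of_mul_eq_one_left (hA x hx)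
    rw [← h1 _ (A.mul_mem ha hb), mul_inv_rev, h1 a ha, h1 b hb]
  -- the permutation part
  let f : A →* M24 := toM24.comp (Subgroup.inclusion hAF)
  let B : Subgroup M24 := f.range
  -- the sign part
  let D : AddSubgroup (GolayPt → ZMod 2) :=
    { carrier := {c | ∃ d : golayCode, (d : GolayPt → ZMod 2) = c ∧ pr (signCo0 d) ∈ A}
      zero_mem' := ⟨0, rfl, by rw [signCo0_zero, map_one]; exact A.one_mem⟩
      add_mem' := by
        rintro _ _ ⟨c, rfl, hc⟩ ⟨d, rfl, hd⟩
        exact ⟨c + d, rfl, by rw [signCo0_add, map_mul]; exact A.mul_mem hc hd⟩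
      neg_mem' := by
        rintro _ ⟨c, rfl, hc⟩
        refine ⟨c, ?_, hc⟩
        funext i
        show (c : GolayPt → ZMod 2) i = -(c : GolayPt → ZMod 2) i
        exact (ZMod.neg_eq_self_mod_two _).symm }
  have h12 : Nat.card D ≤ 2 ^ 12 := by
    have h1 : Nat.card D ≤ Nat.card golayCode := by
      refine Nat.card_le_card_of_injective (fun c : D => (⟨c.1, by obtain ⟨d, hd, _⟩ := c.2; rw [← hd]; exact d.2⟩ : golayCode)) ?_
      intro c d h
      exact Subtype.ext (congrArg (fun x : golayCode => (x : GolayPt → ZMod 2)) h)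
    have h2 : Nat.card golayCode = 4096 := by
      have h3 := Cfsg.Agent.S0358.card_golayCode
      exact h3
    omega
  -- the count for the signs
  have hDcard : 2 * Nat.card f.ker ≤ Nat.card D := by
    have hsgn : ∀ a : f.ker, ∃ c : golayCode, ((a : A) : Co1) = pr (signCo0 c) := by
      rintro ⟨a, ha⟩
      exact (mem_E _).1 ((toM24_eq_one_iff ⟨(a : Co1), hAF a.2⟩).1 ha)
    choose w hw using hsgn
    have hone : allOne ≠ 0 := by
      intro h
      have h1 := congrArg (fun c : golayCode => (c : GolayPt → ZMod 2) none) h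
      have h2 : (1 : ZMod 2) = 0 := h1
      exact one_ne_zero h2
    have hpr : ∀ (c : golayCode) (e : Bool), pr (signCo0 (c + bif e then allOne else 0)) = pr (signCo0 c) := by
      intro c e
      cases e
      · rw [cond_false, add_zero]
      · exact Cfsg.Agent.CoOneType.CoOneE.pr_sign_add_allOne c
    have hle := Nat.card_le_card_of_injective
      (fun x : f.ker × Bool => (⟨((w x.1 + bif x.2 then allOne else 0 : golayCode) : GolayPt → ZMod 2),
        _, rfl, by rw [hpr, ← hw]; exact (x.1 : A).2⟩ : D)) (by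
      rintro ⟨a, e⟩ ⟨b, e'⟩ h
      have h1 : w a + (bif e then allOne else 0) = w b + (bif e' then allOne else 0) :=
        Subtype.ext (congrArg (fun x : D => (x : GolayPt → ZMod 2)) h)
      have h2 : a = b := by
        apply Subtype.ext
        apply Subtype.ext
        rw [hw, hw, ← hpr (w a) e, h1, hpr]
      subst h2
      have h3 := add_left_cancel h1
      have h4 : e = e' := by
        cases e <;> cases e'
        · rfl
        · exact absurd h3.symm hone
        · exact absurd h3 hone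
        · rfl
      rw [h4])
    rw [Nat.card_prod, mul_comm] at hle
    have h5 : Nat.card Bool = 2 := by rw [Nat.card_eq_fintype_card]; rfl
    rwa [h5] at hle
  have hAcard : Nat.card A = Nat.card f.ker * Nat.card B := by
    rw [← Subgroup.index_ker, Subgroup.card_mul_index]
  have hBsq : ∀ b : B, b * b = 1 := by
    rintro ⟨_, a, rfl⟩
    apply Subtype.ext
    show f a * f a = 1
    rw [← map_mul]
    have : a * a = 1 := Subtype.ext (hA a a.2)
    rw [this, map_one]
  have key := Claim.card_mul_card_le (Ω := GolayPt) (B := B) (by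
      exact Cfsg.Agent.Leech.Code.card_golayPt) hBsq (by
      intro b hb i hi
      have hb1 : ((b : M24) : Equiv.Perm GolayPt) ≠ 1 := fun h => hb (Subtype.ext (Subtype.ext h))
      have hb2 : ((b : M24) : Equiv.Perm GolayPt) * ((b : M24) : Equiv.Perm GolayPt) = 1 :=
        congrArg (fun x : B => ((x : M24) : Equiv.Perm GolayPt)) (hBsq b)
      exact Cfsg.Agent.J4Type.FusionM22.card_fix (b : M24).2 hb2 hb1 hi) D (by
      rintro _ ⟨d, rfl, _⟩ hne
      exact weight (fun h => hne (by rw [h]; rfl))) (by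
      rintro _ ⟨d, rfl, hd⟩ ⟨_, a, rfl⟩
      obtain ⟨c, σ, hcσ⟩ := exists_of_mem_F (hAF a.2)
      have hσ : f a = σ := toM24_eq hcσ
      have h1 := conj_sign σ d c
      rw [← hcσ, hcomm _ a.2 _ hd, mul_inv_cancel_right] at h1
      have h2 : ∀ i, (((⟨f a, a, rfl⟩ : B) : M24) : Equiv.Perm GolayPt) i = (σ : Equiv.Perm GolayPt) i := fun i => by
        show (f a : Equiv.Perm GolayPt) i = _
        rw [hσ]
      rcases (Cfsg.Agent.CoOneType.CoOneE.pr_sign_eq_iff _ _).1 h1 with h | h
      · left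
        intro i
        show (d : GolayPt → ZMod 2) ((((⟨f a, a, rfl⟩ : B) : M24) : Equiv.Perm GolayPt) i) = _
        rw [h2]
        have h3 := congrArg (fun c : golayCode => (c : GolayPt → ZMod 2) ((σ : Equiv.Perm GolayPt) i)) h
        simp only [wordPerm_apply, Equiv.symm_apply_apply] at h3
        exact h3.symm
      · right
        intro i
        show (d : GolayPt → ZMod 2) ((((⟨f a, a, rfl⟩ : B) : M24) : Equiv.Perm GolayPt) i) = _
        rw [h2]
        have h3 := congrArg (fun c : golayCode => (c : GolayPt → ZMod 2) ((σ : Equiv.Perm GolayPt) i)) h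
        have h4 : (d : GolayPt → ZMod 2) ((σ : Equiv.Perm GolayPt).symm ((σ : Equiv.Perm GolayPt) i)) =
          (d : GolayPt → ZMod 2) ((σ : Equiv.Perm GolayPt) i) + 1 := h3
        rw [Equiv.symm_apply_apply] at h4
        rw [h4, add_assoc, Claim.add_self, add_zero]) h12
  rw [hAcard]
  have h3 : 2 * (Nat.card f.ker * Nat.card B) ≤ 2 ^ 12 := by
    calc 2 * (Nat.card f.ker * Nat.card B) = 2 * Nat.card f.ker * Nat.card B := by ring
      _ ≤ Nat.card D * Nat.card B := Nat.mul_le_mul_right _ hDcard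
      _ ≤ _ := key
  omega

/-- **`m_2(Co1) ≤ 11`** -/
theorem card_le {A : Subgroup Co1} (hA : ∀ a ∈ A, a * a = 1) : Nat.card A ≤ 2 ^ 11 := by
  obtain ⟨g, hg⟩ := exists_conj_le (A := A) (H := F) (fun a => ⟨1, Subtype.ext (by
    show (a : Co1) ^ 2 ^ 1 = 1
    rw [pow_one, pow_two]; exact hA a a.2)⟩) odd_index_F
  have h1 : Nat.card (A.map (MulAut.conj g⁻¹).toMonoidHom) = Nat.card A :=
    (Nat.card_congr (A.equivMapOfInjective _ (MulAut.conj g⁻¹).injective).toEquiv).symm
  rw [← h1]
  refine card_le_of_le ?_ ?_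
  · rintro _ ⟨a, ha, rfl⟩
    rw [← map_mul, hA a ha, map_one]
  · rintro _ ⟨a, ha, rfl⟩
    show g⁻¹ * a * (g⁻¹)⁻¹ ∈ F
    rw [inv_inv]
    exact hg a ha

theorem center_eq : Subgroup.center Co1 = ⊥ := by
  have : IsSimpleGroup Co1 := Cfsg.Agent.S0399.result.1
  refine SimpleTool.center_eq_bot ?_
  rw [card_Co1, show (4157776806543360000 : ℕ) = 2 * 2078888403271680000 by norm_num]
  exact Nat.not_prime_mul (by norm_num) (by norm_num)

/-- **RK**: `m_2(Aut Co1) ≤ 11`. -/
theorem rk : RK Co1 11 := by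
  intro A hA
  have hinj : Function.Injective (MulAut.conj : Co1 →* MulAut Co1) := by
    rw [← MonoidHom.ker_eq_bot_iff, eq_bot_iff, ← center_eq]
    intro x hx
    rw [Subgroup.mem_center_iff]
    intro y
    have h1 := DFunLike.congr_fun (MonoidHom.mem_ker.1 hx) y
    rw [MulAut.conj_apply, MulAut.one_apply, mul_inv_eq_iff_eq_mul] at h1
    exact h1.symm
  have hsurj : (A.comap (MulAut.conj : Co1 →* MulAut Co1)).map (MulAut.conj : Co1 →* MulAut Co1) = A := by
    rw [Subgroup.map_comap_eq, Cfsg.Agent.ConwayFacts.AutCo1.conj_range (MulEquiv.refl Co1), top_inf_eq]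
  rw [← hsurj, ← Nat.card_congr ((A.comap _).equivMapOfInjective _ hinj).toEquiv]
  apply card_le
  intro a ha
  apply hinj
  rw [map_mul, map_one, ← pow_two]
  exact hA _ ha

theorem rk_of_iso {K : Type*} [Group K] (h : Spor.IsoCo1 K) : RK K 11 := by
  obtain ⟨e⟩ := h
  exact rk.equiv e

end Cfsg.Agent.Omega.TwoF.CoRank.Main

end

-- merged: Cfsg.Agent.Mrg.Omega.TwoF.RowsDone
section

/-!
# TABLE 2F (`q = 2`)

`rows : KFacts.Rows2`, all 38 rows.
-/

set_option autoImplicit false

namespace Cfsg.Agent.Omega.TwoF.RowsDone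

open Cfsg Cfsg.Lie Cfsg.Agent.Omega.KFacts Cfsg.Agent.Omega.TwoF Cfsg.Agent.Omega.EH3

universe u

/-- The row `G₂(q)`, `q` odd. -/
theorem row_G2 (F : Type) [Field F] [Fintype F] (h2 : (2 : F) ≠ 0) : RowEH3.{u} (chevG2.group F) := by
  obtain ⟨p, hp⟩ := CharP.exists F
  have hprime : p.Prime := (CharP.char_is_prime_or_zero F p).resolve_right fun h0 => by
    subst h0
    have := CharP.charP_to_charZero F
    exact not_finite F
  have hp2 : p ≠ 2 := fun h => h2 (by
    subst h
    exact_mod_cast CharP.cast_eq_zero F 2)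
  have : Fact p.Prime := ⟨hprime⟩
  exact RowEH3.of_kill (RowGTwo.kill2.{u, 0} (F := F) (p := p) hp2)

/-- The rows `²E₆(q)`, `³D₄(q)`, `q` odd. -/
theorem row_twisted : Row.{u} fun K _ => OddChar @IsTwistedE6D4Char K :=
  RowTwD4.twisted_of_row fun K _ h => by
    obtain ⟨F, _, _, q, hq, h2, hF, ⟨e⟩⟩ := h
    exact (RowTwE6.row hq hF h2).equiv e

/-- **TABLE 2F.** -/
theorem rows : Rows2.{u} where
  alt := fun n h5 _ => (le_total n 9).elim (fun h => Cfsg.Agent.Omega.AltRow.row_small h5 h)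
    fun h => RowEH3.of_kill (Cfsg.Agent.Omega.TwoF.AltRow.kill_nine h)
  psl := RowLU.psl
  psp := RowPSp.row
  psu := RowLU.psu
  u43 := RowLU.u43
  omOdd := RowOrth.omOdd
  omPlus := RowOrth.omPlus
  omMinus := RowOrth.omMinus
  chev := fun K _ h => RowExc.chev_of_G2 row_G2 K h.1
  twisted := row_twisted
  ree := RowRee.row.toRow
  tits := fun _ _ h => RowTits.row h
  m11 := RowM11.row.toRow
  m12 := RowM12.row.toRow
  m22 := RowM23.row22
  m23 := RowM23.row23.toRow
  m24 := KillRow.toRow RowM24.row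
  j1 := RowJ1.row.toRow
  j2 := RowJ2.row.toRow
  j3 := RowJ3.row.toRow
  j4 := KillRow.toRow RowJ4.row
  co1 := fun _ _ h => ⟨Or.inr (LB.of_heis (RowCo1LB.lb_of_iso h)).lbs, CoRank.Main.rk_of_iso h, rfl⟩
  co2 := RowCo2.co2
  co3 := fun K _ h => by
    have hs := (Cfsg.Agent.OddHalf.D8.RowCo3.card_of h).1
    exact RowEH3.of_dead (Cfsg.Agent.OddHalf.D8.RowCo3.center_bot h) (RowCo3.dead h)
  mcl := RowMcL.row.toRow
  hs := KillRow.toRow RowHS.row
  suz := RowSuz.row.toRow
  he := RowHe.row.toRow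
  ru := RowRu.row.toRow
  on := RowON.row.toRow
  ly := RowLy.row.toRow
  fi22 := RowFi.row_fi22.toRow
  fi23 := RowFi.row_fi23.toRow
  fi24 := RowFi.row_fi24.toRow
  hn := KillRow.toRow RowHN.row
  th := RowTh.row.toRow
  b := RowB.row.toRow
  m := RowM.row.toRow

end Cfsg.Agent.Omega.TwoF.RowsDone

end
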